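import Groth.Agent.GrModLib.NegTwist
import Groth.Agent.KRRLib.RegSES
import Groth.Agent.KRRLib.PullVb
import Groth.Agent.ResK0.Basic
import Groth.Agent.ResK0.VbKernel
import Groth.Agent.CohDev.TensorCoh
import Groth.Agent.KFlat.TensorLocFree
import Groth.Agent.PerfTri.Cone
import Groth.Agent.S3205

/-!
# The Koszul relation between the twists of a bundle on `P^n_Y`
-/

set_option autoImplicit false
set_option linter.style.haveILetI false

open CategoryTheory CategoryTheory.Limits AlgebraicGeometry MonoidalCategory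
open Groth.Agent.ProjTwist

universe u

noncomputable section

namespace Groth.Agent.KRR49

open Groth.Agent.PullStalk.Sky Groth.Agent.PullStalk.Exact

theorem tens_shortExact_flf {X : Scheme.{u}} {V : X.Modules} (hV : FlatMod.IsFinLocFree V)
    {S : ShortComplex X.Modules} (hS : S.ShortExact) :
    (S.map ((DCoh.tensorBi (X := X)).obj V)).ShortExact := by
  let F := (DCoh.tensorBi (X := X)).obj V
  haveI : PreservesColimitsOfSize.{0, 0} F := KFlat.TensorLocFree.preservesColimits_tensorBi_obj V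
  haveI := hS.mono_f
  haveI := hS.epi_g
  haveI : PreservesFiniteColimits F := PreservesColimitsOfSize.preservesFiniteColimits F
  haveI : Mono (F.map S.f) := by
    refine KFlat.StalkTensor.mono_of_stalk_injective _ fun y => ?_
    haveI := PerfTri.Betti.isQuasicoherent_of_isFinLocFree hV
    haveI := (Props.QProj.free_stalk _ hV y).1
    haveI : Module.Flat (X.presheaf.stalk y) ((DerSch.stalkFunctor X y).obj V) := by
      haveI : Module.Free (X.presheaf.stalk y) ((DerSch.stalkFunctor X y).obj V) :=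
        (Props.QProj.free_stalk _ hV y).1
      exact Module.Flat.of_free
    have h := KFlat.StalkCx.stIso_right y V S.f
    have hinj : Function.Injective
        (((DerSch.stalkFunctor X y).obj V ◁ (DerSch.stalkFunctor X y).map S.f :
          _ ⟶ (DerSch.stalkFunctor X y).obj V ⊗ (DerSch.stalkFunctor X y).obj S.X₂)).hom :=
      Module.Flat.lTensor_preserves_injective_linearMap (M := ((DerSch.stalkFunctor X y).obj V)) _
        (KFlat.StalkTensor.stalk_map_injective y S.f)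
    intro a b hab
    have ha := LinearMap.congr_fun (congrArg ModuleCat.Hom.hom h) a
    have hb := LinearMap.congr_fun (congrArg ModuleCat.Hom.hom h) b
    refine (KFlat.StalkCx.stIso y V S.X₁).toLinearEquiv.injective (hinj ?_)
    exact ha.symm.trans ((congrArg (KFlat.StalkCx.stIso y V S.X₂).hom.hom hab).trans hb)
  exact
    { exact := ShortComplex.exact_of_g_is_cokernel _
        (CokernelCofork.mapIsColimit (CokernelCofork.ofπ S.g S.zero) hS.gIsCokernel F)
      mono_f := inferInstanceAs (Mono (F.map S.f))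
      epi_g := inferInstanceAs (Epi (F.map S.g)) }

theorem isFinLocFree_one {X : Scheme.{u}} {L : X.Modules} (h : PicF.IsInvertible L) :
    FlatMod.IsFinLocFree L := fun x =>
  let ⟨U, hx, e⟩ := ProjTwist.isFinLocFreeOfRank_one h x
  ⟨U, 1, hx, e⟩

theorem isFinLocFree_twF {n : ℕ} {Y : Scheme.{u}} {F : (KRR.PY n Y).Modules}
    (hF : FlatMod.IsFinLocFree F) (d : ℤ) : FlatMod.IsFinLocFree (KRR.twF n Y d F) :=
  KFlat.TensorLocFree.isFinLocFree_tensM (isFinLocFree_one (KRRLib.isInvertible_twistOver d)) hF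

theorem isInvertible_twA (n : ℕ) (d : ℤ) :
    PicF.IsInvertible (Twist.twistProjSpace n (ULift.{u} ℤ) d) :=
  ProjTwist.isInvertible_twistProjSpace n (ULift.{u} ℤ) d

theorem isFinLocFree_twA {n : ℕ} {M : (CohB1.ProjSpace n (ULift.{u} ℤ)).Modules}
    (hM : FlatMod.IsFinLocFree M) (d : ℤ) : FlatMod.IsFinLocFree (Pn.twF M d) :=
  @KFlat.TensorLocFree.isFinLocFree_tensM (CohB1.ProjSpace n (ULift.{u} ℤ)) M
    (Twist.twistProjSpace n (ULift.{u} ℤ) d) hM
    (@isFinLocFree_one (CohB1.ProjSpace n (ULift.{u} ℤ)) _ (isInvertible_twA.{u} n d))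

theorem isFinLocFree_tensorMod {X : Scheme.{u}} {M N : X.Modules} (hM : FlatMod.IsFinLocFree M)
    (hN : FlatMod.IsFinLocFree N) : FlatMod.IsFinLocFree (CohB1.tensorMod M N) :=
  KFlat.TensorLocFree.isFinLocFree_tensM hM hN

/-- The coefficient in the relation. -/
def R {G : Type*} [AddCommGroup G] (n : ℕ) (f : ℕ → G) : G :=
  (-1 : ℤ) ^ n • (f (n + 1) - ∑ p ∈ Finset.range n, ((-1 : ℤ) ^ p * (n + 1).choose (p + 1)) • f (n - p))

theorem R_add {G : Type*} [AddCommGroup G] (n : ℕ) (f g : ℕ → G) :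
    R n (fun j => f j + g j) = R n f + R n g := by
  simp only [R, smul_add, Finset.sum_add_distrib, add_sub_add_comm]

theorem map_R {G H : Type*} [AddCommGroup G] [AddCommGroup H] (φ : G →+ H) (n : ℕ) (f : ℕ → G) :
    φ (R n f) = R n (fun j => φ (f j)) := by
  simp only [R, map_sub, map_sum, map_zsmul]

theorem R_congr {G : Type*} [AddCommGroup G] (n : ℕ) {f g : ℕ → G} (h : ∀ j, 1 ≤ j → f j = g j) :
    R n f = R n g := by
  simp only [R]
  rw [h (n + 1) (by omega)]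
  congr 2
  exact Finset.sum_congr rfl fun p hp => by rw [h (n - p) (by have := Finset.mem_range.mp hp; omega)]

variable {n : ℕ} {Y : Scheme.{u}}

/-- `M ↦ F ⊗ toPZ^* M(s)`. -/
def psi (F : (KRR.PY n Y).Modules) (s : ℤ) :
    (CohB1.ProjSpace n (ULift.{u} ℤ)).Modules ⥤ (KRR.PY n Y).Modules :=
  Pn.twFun n (ULift.{u} ℤ) s ⋙ Scheme.Modules.pullback (KRRLib.toPZ n Y) ⋙
    (DCoh.tensorBi (X := KRR.PY n Y)).obj F

instance (F : (KRR.PY n Y).Modules) (s : ℤ) : (psi F s).Additive := by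
  haveI : (Scheme.Modules.pullback (KRRLib.toPZ n Y)).IsLeftAdjoint :=
    (Scheme.Modules.pullbackPushforwardAdjunction _).isLeftAdjoint
  unfold psi
  infer_instance

/-- The value, spelled out. -/
def psiObj (F : (KRR.PY n Y).Modules) (s : ℤ) (M : (CohB1.ProjSpace n (ULift.{u} ℤ)).Modules) :
    (psi F s).obj M ≅ CohB1.tensorMod F ((Scheme.Modules.pullback (KRRLib.toPZ n Y)).obj (Pn.twF M s)) :=
  Iso.refl _

theorem isFinLocFree_psi {F : (KRR.PY n Y).Modules} (hF : FlatMod.IsFinLocFree F) (s : ℤ)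
    {M : (CohB1.ProjSpace n (ULift.{u} ℤ)).Modules} (hM : FlatMod.IsFinLocFree M) :
    FlatMod.IsFinLocFree ((psi F s).obj M) :=
  KFlat.LocFree.isFinLocFree_of_iso (psiObj F s M).symm
    (isFinLocFree_tensorMod hF (KFlat.LocFree.isFinLocFree_pull _ (isFinLocFree_twA hM s)))

theorem shortExact_psi {F : (KRR.PY n Y).Modules} (hF : FlatMod.IsFinLocFree F) (s : ℤ)
    {S : ShortComplex (CohB1.ProjSpace n (ULift.{u} ℤ)).Modules} (hS : S.ShortExact)
    (h₃ : FlatMod.IsFinLocFree S.X₃) : (S.map (psi F s)).ShortExact :=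
  @tens_shortExact_flf (KRR.PY n Y) F hF
    ((S.map (Pn.twFun n (ULift.{u} ℤ) s)).map (Scheme.Modules.pullback (KRRLib.toPZ n Y)))
    (@KRRLib.shortExact_pull (KRR.PY n Y) (CohB1.ProjSpace n (ULift.{u} ℤ)) (KRRLib.toPZ n Y)
      (S.map (Pn.twFun n (ULift.{u} ℤ) s)) (Pn.shortExact_tw hS s) (isFinLocFree_twA h₃ s))

/-- The value on the structure sheaf. -/
def psiUnit (F : (KRR.PY n Y).Modules) (s : ℤ) :
    (psi F s).obj (Coh.structureModule _) ≅ KRR.twF n Y s F :=
  psiObj F s _ ≪≫ tensCongr (Iso.refl F) ((Scheme.Modules.pullback (KRRLib.toPZ n Y)).mapIso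
      (oneTens (Twist.twistProjSpace n (ULift.{u} ℤ) s))) ≪≫
    tensComm F (Twist.twistOver n Y s)

/-- The value on `M(-1)`. -/
def psiTw (F : (KRR.PY n Y).Modules) (s t : ℤ) (h : s = t + 1)
    (M : (CohB1.ProjSpace n (ULift.{u} ℤ)).Modules) :
    (psi F s).obj ((Pn.twFun n (ULift.{u} ℤ) (-1)).obj M) ≅ (psi F t).obj M :=
  psiObj F s _ ≪≫ tensCongr (Iso.refl F) ((Scheme.Modules.pullback (KRRLib.toPZ n Y)).mapIso
    (Pn.twTw M (-1) s t (by omega))) ≪≫ (psiObj F t M).symm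

/-- Twisting the value. -/
def twPsi (F : (KRR.PY n Y).Modules) (s t : ℤ) (h : t = s + 1)
    (M : (CohB1.ProjSpace n (ULift.{u} ℤ)).Modules) :
    KRR.twF n Y 1 ((psi F s).obj M) ≅ (psi F t).obj M :=
  tensCongr (Iso.refl (Twist.twistOver n Y 1)) (psiObj F s M) ≪≫
    tensComm (Twist.twistOver n Y 1) _ ≪≫
    tensAssoc F ((Scheme.Modules.pullback (KRRLib.toPZ n Y)).obj (Pn.twF M s)) (Twist.twistOver n Y 1) ≪≫
    tensCongr (Iso.refl F)
      ((KFlat.PullTensor.pullTensorIso (KRRLib.toPZ n Y) (Pn.twF M s) (Twist.twistProjSpace n (ULift.{u} ℤ) 1)).symm ≪≫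
        (Scheme.Modules.pullback (KRRLib.toPZ n Y)).mapIso (Pn.twTw M s 1 t (by omega))) ≪≫
    (psiObj F t M).symm

/-- What is needed of a class of bundles containing the nonnegative twists of `F`. -/
structure Class0 (Q : ObjectProperty (KRR.PY n Y).Modules) (F : (KRR.PY n Y).Modules) : Prop where
  le : ∀ M, Q M → FlatMod.IsFinLocFree M
  iso : ∀ {M N : (KRR.PY n Y).Modules}, (M ≅ N) → Q M → Q N
  zero : ∀ M, IsZero M → Q M
  biprod : ∀ A B, Q A → Q B → Q (A ⊞ B)
  twist : ∀ j : ℕ, Q (KRR.twF n Y ((j : ℕ) : ℤ) F)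

/-- A class closed under cokernels, up to one twist. -/
structure Class (Q : ObjectProperty (KRR.PY n Y).Modules) (F : (KRR.PY n Y).Modules) : Prop
    extends Class0 Q F where
  right : ∀ S : ShortComplex (KRR.PY n Y).Modules, S.ShortExact → Q S.X₂ →
    FlatMod.IsFinLocFree S.X₃ → Q (KRR.twF n Y 1 S.X₁) → Q S.X₃

theorem clSub_iso {Q : ObjectProperty (KRR.PY n Y).Modules}
    {M N : (KRR.PY n Y).Modules} (e : M ≅ N) (hM : Q M) (hN : Q N) (h0 : ∀ Z, IsZero Z → Q Z) :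
    KZero.clSub Q M = KZero.clSub Q N := by
  have hZ : IsZero (⊤_ (KRR.PY n Y).Modules) :=
    IsZero.of_iso (isZero_zero _) (HasZeroObject.zeroIsoTerminal).symm
  have : (ShortComplex.mk (0 : ⊤_ (KRR.PY n Y).Modules ⟶ M) e.hom (by simp)).ShortExact :=
    have : Mono (0 : ⊤_ (KRR.PY n Y).Modules ⟶ M) := ⟨fun _ _ _ => hZ.eq_of_tgt _ _⟩
    { exact := by
        rw [ShortComplex.exact_iff_mono _ rfl]
        dsimp
        infer_instance
      mono_f := inferInstance
      epi_g := inferInstance }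
  rw [ResK0.Basic.clSub_add Q this (h0 _ hZ) hM hN]
  refine add_eq_right.mpr ?_
  have hz : (ShortComplex.mk (0 : ⊤_ (KRR.PY n Y).Modules ⟶ ⊤_ _) (0 : ⊤_ (KRR.PY n Y).Modules ⟶ ⊤_ _) (by simp)).ShortExact :=
    have : Mono (0 : ⊤_ (KRR.PY n Y).Modules ⟶ ⊤_ _) := ⟨fun _ _ _ => hZ.eq_of_tgt _ _⟩
    have : Epi (0 : ⊤_ (KRR.PY n Y).Modules ⟶ ⊤_ _) := ⟨fun _ _ _ => hZ.eq_of_src _ _⟩
    { exact := ShortComplex.exact_of_isZero_X₂ _ hZ
      mono_f := inferInstance
      epi_g := inferInstance }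
  simpa using ResK0.Basic.clSub_add Q hz (h0 _ hZ) (h0 _ hZ) (h0 _ hZ)

theorem clSub_zero {Q : ObjectProperty (KRR.PY n Y).Modules} {Z : (KRR.PY n Y).Modules}
    (hZ : IsZero Z) (hq : Q Z) : KZero.clSub Q Z = 0 := by
  have hz : (ShortComplex.mk (0 : Z ⟶ Z) (0 : Z ⟶ Z) (by simp)).ShortExact :=
    have : Mono (0 : Z ⟶ Z) := ⟨fun _ _ _ => hZ.eq_of_tgt _ _⟩
    have : Epi (0 : Z ⟶ Z) := ⟨fun _ _ _ => hZ.eq_of_src _ _⟩
    { exact := ShortComplex.exact_of_isZero_X₂ _ hZ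
      mono_f := inferInstance
      epi_g := inferInstance }
  simpa using ResK0.Basic.clSub_add Q hz hq hq hq

variable {Q : ObjectProperty (KRR.PY n Y).Modules} {F : (KRR.PY n Y).Modules}

/-- The coordinates. -/
abbrev taus (n : ℕ) := List.ofFn (Pn.mulX (n := n) (R := ULift.{u} ℤ))

/-- The structure sheaf over the integers. -/
abbrev O0 (n : ℕ) := Coh.structureModule (CohB1.ProjSpace n (ULift.{u} ℤ))

theorem flf_term (l : List (Pn.twFun n (ULift.{u} ℤ) (-1) ⟶ 𝟭 _)) (p : ℕ) :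
    FlatMod.IsFinLocFree (Kosz.term (O0.{u} n) (Kosz.kosz (O0.{u} n) l).Y p) :=
  Kosz.kosz_term (fun _ M => FlatMod.IsFinLocFree M)
    (isFinLocFree_one (LFFrame.isInvertible_structureModule _))
    (fun _ _ h => S3205.flf_of_isZero h) (fun _ _ _ => PerfTri.Cone.isFinLocFree_biprod)
    (fun _ _ h => isFinLocFree_twA h (-1))
    l p

theorem class_psi_term (hQ : Class0 Q F) (l : List (Pn.twFun n (ULift.{u} ℤ) (-1) ⟶ 𝟭 _)) :
    ∀ p s : ℕ, p ≤ s → Q ((psi F (s : ℤ)).obj (Kosz.term (O0.{u} n) (Kosz.kosz (O0.{u} n) l).Y p)) :=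
  Kosz.kosz_term (fun p M => ∀ s : ℕ, p ≤ s → Q ((psi F (s : ℤ)).obj M))
    (fun s _ => hQ.iso (psiUnit F _).symm (hQ.twist s))
    (fun _ _ h _ _ => hQ.zero _ ((psi F _).map_isZero h))
    (fun p A B hA hB s hs => haveI : PreservesBinaryBiproducts (psi F (s : ℤ)) :=
        preservesBinaryBiproducts_of_preservesBiproducts _
       hQ.iso ((psi F _).mapBiprod A B).symm (hQ.biprod _ _ (hA s hs) (hB s hs)))
    (fun p A hA s hs => hQ.iso (psiTw F _ (((s - 1 : ℕ) : ℤ)) (by omega) A).symm (hA (s - 1) (by omega)))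
    l

theorem cl_psi_term (hQ : Class0 Q F) : ∀ (l : List (Pn.twFun n (ULift.{u} ℤ) (-1) ⟶ 𝟭 _)) (p s : ℕ),
    p ≤ s → KZero.clSub Q ((psi F (s : ℤ)).obj (Kosz.term (O0.{u} n) (Kosz.kosz (O0.{u} n) l).Y p)) =
      ((l.length.choose p : ℕ) : ℤ) • KZero.clSub Q (KRR.twF n Y (((s - p : ℕ)) : ℤ) F)
  | l, 0, s, _ => by
    simp only [Nat.choose_zero_right, Nat.cast_one, one_smul, Nat.sub_zero]
    exact clSub_iso (psiUnit F _) (hQ.iso (psiUnit F _).symm (hQ.twist s)) (hQ.twist s) hQ.zero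
  | [], p + 1, s, hs => by
    simp only [List.length_nil, Nat.choose_zero_succ, Nat.cast_zero, zero_smul]
    exact clSub_zero ((psi F _).map_isZero
      (IsZero.of_iso (isZero_zero _) (HasZeroObject.zeroIsoTerminal).symm)) (class_psi_term hQ [] (p + 1) s hs)
  | τ :: l, p + 1, s, hs => by
    have h1 := class_psi_term hQ l (p + 1) s hs
    have h2 : Q ((psi F (s : ℤ)).obj ((Pn.twFun n (ULift.{u} ℤ) (-1)).obj (Kosz.term (O0.{u} n) (Kosz.kosz (O0.{u} n) l).Y p))) :=
      hQ.iso (psiTw F _ (((s - 1 : ℕ) : ℤ)) (by omega) _).symm (class_psi_term hQ l p (s - 1) (by omega))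
    have h3 := hQ.biprod _ _ h1 h2
    haveI : PreservesBinaryBiproducts (psi F (s : ℤ)) := preservesBinaryBiproducts_of_preservesBiproducts _
    refine (clSub_iso ((psi F _).mapBiprod _ _) (class_psi_term hQ (τ :: l) (p + 1) s hs) h3 hQ.zero).trans ?_
    refine (ResK0.Basic.clSub_add Q (ShortComplex.Splitting.ofHasBinaryBiproduct _ _).shortExact h1 h3 h2).trans ?_
    dsimp only
    rw [cl_psi_term hQ l (p + 1) s hs, clSub_iso (psiTw F _ (((s - 1 : ℕ) : ℤ)) (by omega) _) h2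
      (class_psi_term hQ l p (s - 1) (by omega)) hQ.zero, cl_psi_term hQ l p (s - 1) (by omega),
      show s - 1 - p = s - (p + 1) by omega, List.length_cons, Nat.choose_succ_succ', Nat.cast_add,
      add_smul, add_comm]

/-- The syzygies. -/
abbrev Zs (n : ℕ) (p : ℕ) := GrModLib.NegTwist.syz (O0.{u} n) p

theorem flf_syz (n : ℕ) : ∀ p, FlatMod.IsFinLocFree (Zs.{u} n p) := by
  haveI := CohOps.PnSmooth.smooth_toSpec n (ULift.{u} ℤ)
  haveI : IsNoetherianRing (ULift.{u} ℤ) := isNoetherianRing_of_ringEquiv ℤ ULift.ringEquiv.symm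
  haveI : IsLocallyNoetherian (CohB1.ProjSpace n (ULift.{u} ℤ)) :=
    LocallyOfFiniteType.isLocallyNoetherian (CohB1.ProjSpace.toSpec n (ULift.{u} ℤ))
  intro p
  induction p with
  | zero =>
    haveI : Epi ((GrModLib.NegTwist.kcx (O0.{u} n)).d 0) := Omega.Stalks.epi_of_stalk fun y t =>
      (Kosz.exactAt_kosz (O0.{u} n) (taus.{u} n) y (Pn.exists_mulX_bijAt y)).1 t
    exact ResK0.VbKernel.isFinLocFree_X₁ (ResK0.Basic.shortExact_kernel ((GrModLib.NegTwist.kcx (O0.{u} n)).d 0))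
      (flf_term (taus.{u} n) 1) (flf_term (taus.{u} n) 0)
  | succ p ih =>
    exact ResK0.VbKernel.isFinLocFree_X₁ (GrModLib.NegTwist.shortExact_syzSeq (O0.{u} n) p) (flf_term (taus.{u} n) (p + 2)) ih

theorem isZero_syz {n : ℕ} (p : ℕ) (hp : n ≤ p) : IsZero (Zs.{u} n p) := by
  have h := GrModLib.NegTwist.shortExact_syzSeq (O0.{u} n) p
  have : IsZero (GrModLib.NegTwist.syzSeq (O0.{u} n) p).X₂ :=
    Kosz.isZero_kosz (taus.{u} n) (p + 1) (by rw [List.length_ofFn]; omega)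
  exact @IsZero.of_epi _ _ _ _ _ (GrModLib.NegTwist.syzSeq (O0.{u} n) p).g h.epi_g this

theorem class_syz (hQ : Class Q F) (hF : FlatMod.IsFinLocFree F) :
    ∀ c p : ℕ, n ≤ p + c → ∀ s : ℕ, p + 2 ≤ s → Q ((psi F (s : ℤ)).obj (Zs.{u} n p))
  | 0, p, hp, s, _ => hQ.zero _ ((psi F _).map_isZero (isZero_syz p (by omega)))
  | c + 1, p, hp, s, hs => by
    refine hQ.right _ (shortExact_psi hF (s : ℤ) (GrModLib.NegTwist.shortExact_syzSeq (O0.{u} n) p) (flf_syz n p))
      (class_psi_term hQ.toClass0 (taus.{u} n) (p + 2) s hs) (isFinLocFree_psi hF _ (flf_syz n p)) ?_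
    exact hQ.iso (twPsi F _ (((s + 1 : ℕ) : ℤ)) (by push_cast; ring) _).symm
      (class_syz hQ hF c (p + 1) (by omega) (s + 1) (by omega))

theorem cl_psi_seq (hF : FlatMod.IsFinLocFree F) (s : ℤ)
    {A B C : (CohB1.ProjSpace n (ULift.{u} ℤ)).Modules} (a : A ⟶ B) (b : B ⟶ C) (w : a ≫ b = 0)
    (h : (ShortComplex.mk a b w).ShortExact) (hC : FlatMod.IsFinLocFree C)
    (hA : Q ((psi F s).obj A)) (hB : Q ((psi F s).obj B)) (hC' : Q ((psi F s).obj C)) :
    KZero.clSub Q ((psi F s).obj B) =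
      KZero.clSub Q ((psi F s).obj A) + KZero.clSub Q ((psi F s).obj C) :=
  ResK0.Basic.clSub_add Q (shortExact_psi hF s h hC) hA hB hC'

theorem smul_smul_negOne {G : Type*} [AddCommGroup G] (k : ℕ) (x : G) :
    (-1 : ℤ) ^ k • (-1 : ℤ) ^ k • x = x := by
  rw [smul_smul, ← mul_pow, neg_one_mul, neg_neg, one_pow, one_smul]

/-- The Koszul relation. -/
theorem relation_of_syz (hQ : Class0 Q F) (hF : FlatMod.IsFinLocFree F)
    (hsyz : ∀ p, p < n → Q ((psi F ((n + 1 : ℕ) : ℤ)).obj (Zs.{u} n p))) :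
    KZero.clSub Q (KRR.twF n Y ((0 : ℕ) : ℤ) F) =
      R n (fun j => KZero.clSub Q (KRR.twF n Y ((j : ℕ) : ℤ) F)) := by
  set f := fun j : ℕ => KZero.clSub Q (KRR.twF n Y ((j : ℕ) : ℤ) F) with hf
  have hlen : ((taus.{u} n)).length = n + 1 := List.length_ofFn
  let y : ℕ → KZero.K0sub Q := fun p => ((-1 : ℤ) ^ p * (n + 1).choose (p + 1)) • f (n - p)
  let z : ℕ → KZero.K0sub Q := fun p =>
    KZero.clSub Q ((psi F ((n + 1 : ℕ) : ℤ)).obj (Zs.{u} n p))
  have hy : ∀ p, p ≤ n → KZero.clSub Q ((psi F ((n + 1 : ℕ) : ℤ)).obj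
      ((GrModLib.NegTwist.kcx (O0.{u} n)).Y p)) = ((n + 1).choose (p + 1) : ℤ) • f (n - p) := fun p hp => by
    refine (cl_psi_term hQ (taus.{u} n) (p + 1) (n + 1) (by omega)).trans ?_
    rw [hlen, show n + 1 - (p + 1) = n - p by omega]
  have h0 : ((n + 1).choose 1 : ℤ) • f n = z 0 + f (n + 1) := by
    haveI : Epi ((GrModLib.NegTwist.kcx (O0.{u} n)).d 0) := Omega.Stalks.epi_of_stalk fun y t =>
      (Kosz.exactAt_kosz (O0.{u} n) (taus.{u} n) y (Pn.exists_mulX_bijAt y)).1 t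
    have hs := cl_psi_seq (Q := Q) hF ((n + 1 : ℕ) : ℤ) _ _ _
      (ResK0.Basic.shortExact_kernel ((GrModLib.NegTwist.kcx (O0.{u} n)).d 0)) (flf_term (taus.{u} n) 0)
    have hz0 : Q ((psi F ((n + 1 : ℕ) : ℤ)).obj (Zs.{u} n 0)) := by
      by_cases hn : n = 0
      · exact hQ.zero _ ((psi F _).map_isZero (isZero_syz 0 (by omega)))
      · exact hsyz 0 (by omega)
    have h := hs hz0 (class_psi_term hQ (taus.{u} n) 1 (n + 1) (by omega))
      (class_psi_term hQ (taus.{u} n) 0 (n + 1) (by omega))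
    have h' := hy 0 (Nat.zero_le n)
    rw [Nat.sub_zero] at h'
    refine h'.symm.trans (h.trans (congrArg (z 0 + ·) ?_))
    exact (cl_psi_term hQ (taus.{u} n) 0 (n + 1) (by omega)).trans (by simp [hf])
  have hstep : ∀ p, p < n → ((n + 1).choose (p + 2) : ℤ) • f (n - (p + 1)) = z (p + 1) + z p := by
    intro p hp
    have hz1 : Q ((psi F ((n + 1 : ℕ) : ℤ)).obj (Zs.{u} n (p + 1))) := by
      by_cases hn : n ≤ p + 1
      · exact hQ.zero _ ((psi F _).map_isZero (isZero_syz _ hn))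
      · exact hsyz (p + 1) (by omega)
    have hB := class_psi_term hQ (taus.{u} n) (p + 2) (n + 1) (by omega)
    have hC := hsyz p hp
    have h := cl_psi_seq (Q := Q) hF ((n + 1 : ℕ) : ℤ) (GrModLib.NegTwist.syzSeq (O0.{u} n) p).f
      (GrModLib.NegTwist.syzSeq (O0.{u} n) p).g (GrModLib.NegTwist.syzSeq (O0.{u} n) p).zero
      (GrModLib.NegTwist.shortExact_syzSeq (O0.{u} n) p) (flf_syz n p) hz1 hB hC
    exact (hy (p + 1) (by omega)).symm.trans h
  have hsum : ∀ m, m ≤ n → f (n + 1) = ∑ p ∈ Finset.range (m + 1), y p - (-1 : ℤ) ^ m • z m := by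
    intro m
    induction m with
    | zero =>
      intro _
      simp only [Finset.sum_range_succ, Finset.range_zero, Finset.sum_empty, zero_add, y, pow_zero,
        one_mul, one_smul, Nat.sub_zero]
      rw [h0, add_sub_cancel_left]
    | succ m ih =>
      intro hm
      rw [ih (by omega), Finset.sum_range_succ y (m + 1)]
      show _ = _ + ((-1 : ℤ) ^ (m + 1) * ((n + 1).choose (m + 2) : ℤ)) • f (n - (m + 1)) - _
      rw [mul_smul, hstep m (by omega), smul_add, pow_succ, mul_neg_one, neg_smul, neg_smul]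
      abel
  have hn0 : z n = 0 := clSub_zero ((psi F _).map_isZero (isZero_syz n le_rfl))
    (hQ.zero _ ((psi F _).map_isZero (isZero_syz n le_rfl)))
  have h := hsum n le_rfl
  rw [hn0, smul_zero, sub_zero, Finset.sum_range_succ] at h
  show f 0 = R n f
  simp only [R]
  rw [h, show (∑ p ∈ Finset.range n, ((-1 : ℤ) ^ p * ((n + 1).choose (p + 1) : ℤ)) • f (n - p)) =
    ∑ p ∈ Finset.range n, y p from rfl, add_sub_cancel_left]
  simp only [y, Nat.choose_self, Nat.cast_one, mul_one, Nat.sub_self]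
  exact (smul_smul_negOne n (f 0)).symm

/-- The Koszul relation in a class closed under twisted cokernels. -/
theorem relation (hQ : Class Q F) (hF : FlatMod.IsFinLocFree F) :
    KZero.clSub Q (KRR.twF n Y ((0 : ℕ) : ℤ) F) =
      R n (fun j => KZero.clSub Q (KRR.twF n Y ((j : ℕ) : ℤ) F)) :=
  relation_of_syz hQ.toClass0 hF fun p hp => class_syz hQ hF n p (by omega) (n + 1) (by omega)

end Groth.Agent.KRR49
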