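import Groth.Agent.KRR49.GammaPush
import Groth.Agent.Lambda.PserIdent
import Mathlib.RingTheory.PowerSeries.Trunc
import Mathlib.RingTheory.TensorProduct.Basic

/-!
# Adams Riemann-Roch for `P^n_Y ⟶ Y`
-/

set_option autoImplicit false
set_option linter.style.haveILetI false

open CategoryTheory CategoryTheory.Limits AlgebraicGeometry
open LambdaRing
open scoped TensorProduct

universe u v

noncomputable section

namespace Groth.Agent.KRR49

section Series

variable {R : Type} [CommRing R] [IsDomain R] [CharZero R]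

/-- For `s = X u`: the coefficient of `X^n` of `s^m (u + X u') / u^(n+1)` is `δ_{mn}`. -/
theorem coeff_residue (u v : PowerSeries R) (huv : u * v = 1) {n m : ℕ} (hm : m ≤ n) :
    PowerSeries.coeff n ((PowerSeries.X * u) ^ m *
      (u + PowerSeries.X * PowerSeries.derivative R u) * v ^ (n + 1)) = if m = n then 1 else 0 := by
  obtain ⟨d, rfl⟩ := Nat.exists_eq_add_of_le hm
  have h1 : (PowerSeries.X * u) ^ m * (u + PowerSeries.X * PowerSeries.derivative R u) * v ^ (m + d + 1) =
      PowerSeries.X ^ m * (v ^ d + PowerSeries.X * (v ^ (d + 1) * PowerSeries.derivative R u)) := by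
    rw [mul_pow, show m + d + 1 = m + (d + 1) by omega, pow_add v]
    calc _ = PowerSeries.X ^ m * ((u * v) ^ m * ((u * v) * v ^ d +
          PowerSeries.X * (v ^ (d + 1) * PowerSeries.derivative R u))) := by ring
      _ = _ := by rw [huv, one_pow, one_mul, one_mul]
  rw [h1, add_comm m d, PowerSeries.coeff_X_pow_mul]
  rcases Nat.eq_zero_or_pos d with rfl | hd
  · rw [map_add, if_pos (zero_add m).symm, pow_zero, PowerSeries.coeff_zero_X_mul, add_zero,
      PowerSeries.coeff_one, if_pos rfl]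
  obtain ⟨d, rfl⟩ := Nat.exists_eq_add_of_le' hd
  rw [map_add, if_neg (by omega), PowerSeries.coeff_succ_X_mul]
  have hder : PowerSeries.derivative R (v ^ (d + 1)) =
      -((d + 1 : ℕ) : PowerSeries R) * (v ^ (d + 1 + 1) * PowerSeries.derivative R u) := by
    have h := congrArg (PowerSeries.derivative R) huv
    rw [Derivation.leibniz, Derivation.map_one_eq_zero, smul_eq_mul, smul_eq_mul] at h
    have hv : PowerSeries.derivative R v = -(v ^ 2 * PowerSeries.derivative R u) := by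
      calc PowerSeries.derivative R v = (u * v) * PowerSeries.derivative R v := by rw [huv, one_mul]
        _ = _ := by linear_combination v * h
    rw [Derivation.leibniz_pow, hv, nsmul_eq_mul, smul_eq_mul, Nat.add_sub_cancel]
    ring
  have h := congrArg (PowerSeries.coeff d) hder
  rw [PowerSeries.coeff_derivative, neg_mul, map_neg, ← map_natCast (PowerSeries.C (R := R)),
    PowerSeries.coeff_C_mul] at h
  have hne : ((d + 1 : ℕ) : R) ≠ 0 := Nat.cast_ne_zero.2 (Nat.succ_ne_zero d)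
  refine mul_left_cancel₀ hne ?_
  rw [mul_zero, mul_add]
  push_cast at h ⊢
  linear_combination h

/-- `1 + (1 - X) + ⋯ + (1 - X)^(j-1)`. -/
def geomPow (j : ℕ) : Polynomial R := ∑ i ∈ Finset.range j, (1 - Polynomial.X) ^ i

theorem geomPow_mul_X (j : ℕ) : geomPow (R := R) j * Polynomial.X = 1 - (1 - Polynomial.X) ^ j := by
  rw [geomPow, ← geom_sum_mul_neg (1 - Polynomial.X : Polynomial R) j, sub_sub_cancel]

/-- The multiplier and its values. -/
theorem exists_multiplier (n j : ℕ) (hj : 1 ≤ j) (hjR : IsUnit (j : R)) :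
    ∃ W : Polynomial R, (Polynomial.X ^ (n + 1) ∣ W * geomPow j ^ (n + 1) - 1) ∧
      ∀ k, k ≤ n → ∑ i ∈ Finset.range (n + 1),
        ((j : Polynomial R) * (1 - Polynomial.X) ^ (j * k) * W).coeff i = if k = 0 then 1 else 0 := by
  set u : PowerSeries R := ((geomPow j : Polynomial R) : PowerSeries R) with hu
  have hsu : PowerSeries.X * u = 1 - (1 - PowerSeries.X) ^ j := by
    have h := congrArg (fun p : Polynomial R => (p : PowerSeries R)) (geomPow_mul_X (R := R) j)
    simp only [Polynomial.coe_mul, Polynomial.coe_X, Polynomial.coe_sub, Polynomial.coe_one, Polynomial.coe_pow] at h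
    rw [mul_comm, h]
  have hu0 : PowerSeries.constantCoeff u = (j : R) := by
    rw [hu, geomPow, ← Polynomial.coeToPowerSeries.ringHom_apply, map_sum, map_sum]
    simp [Polynomial.coeToPowerSeries.ringHom_apply]
  obtain ⟨v, hv⟩ : ∃ v, u * v = 1 :=
    (PowerSeries.isUnit_iff_constantCoeff.2 (hu0 ▸ hjR)).exists_right_inv
  -- the derivative of `s`
  have hs' : u + PowerSeries.X * PowerSeries.derivative R u = (j : PowerSeries R) * (1 - PowerSeries.X) ^ (j - 1) := by
    have h := congrArg (PowerSeries.derivative R) hsu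
    rw [Derivation.leibniz, map_sub, Derivation.map_one_eq_zero, Derivation.leibniz_pow, map_sub,
      Derivation.map_one_eq_zero, PowerSeries.derivative_X, nsmul_eq_mul, smul_eq_mul, smul_eq_mul, smul_eq_mul] at h
    linear_combination h
  refine ⟨PowerSeries.trunc (n + 1) (v ^ (n + 1)), ?_, fun k hk => ?_⟩
  · rw [Polynomial.X_pow_dvd_iff]
    intro d hd
    rw [← Polynomial.coeff_coe, Polynomial.coe_sub, Polynomial.coe_mul, Polynomial.coe_pow, Polynomial.coe_one,
      ← hu, map_sub, PowerSeries.coeff_mul]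
    rw [Finset.sum_congr rfl (g := fun p => PowerSeries.coeff p.1 (v ^ (n + 1)) * PowerSeries.coeff p.2 (u ^ (n + 1)))
      fun p hp => by rw [Polynomial.coeff_coe, PowerSeries.coeff_trunc, if_pos (by
        have := Finset.HasAntidiagonal.mem_antidiagonal.1 hp; omega)],
      ← PowerSeries.coeff_mul, ← mul_pow, mul_comm v, hv, one_pow, sub_self]
  · have key : ∀ i, i ≤ n → ((j : Polynomial R) * (1 - Polynomial.X) ^ (j * k) *
        PowerSeries.trunc (n + 1) (v ^ (n + 1))).coeff i =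
        PowerSeries.coeff i ((j : PowerSeries R) * (1 - PowerSeries.X) ^ (j * k) * v ^ (n + 1)) := by
      intro i hi
      rw [← Polynomial.coeff_coe, Polynomial.coe_mul, Polynomial.coe_mul, Polynomial.coe_pow, Polynomial.coe_sub,
        Polynomial.coe_one, Polynomial.coe_X, show ((j : Polynomial R) : PowerSeries R) = (j : PowerSeries R) from map_natCast Polynomial.coeToPowerSeries.ringHom j, PowerSeries.coeff_mul, PowerSeries.coeff_mul _ _ (v ^ (n + 1))]
      refine Finset.sum_congr rfl fun p hp => ?_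
      rw [Polynomial.coeff_coe, PowerSeries.coeff_trunc,
        if_pos (by have := Finset.HasAntidiagonal.mem_antidiagonal.1 hp; omega)]
    rw [Finset.sum_congr rfl fun i hi => key i (Finset.mem_range_succ_iff.1 hi)]
    rw [show ∑ i ∈ Finset.range (n + 1), PowerSeries.coeff i ((j : PowerSeries R) * (1 - PowerSeries.X) ^ (j * k) * v ^ (n + 1)) =
      PowerSeries.coeff n ((j : PowerSeries R) * (1 - PowerSeries.X) ^ (j * k) * v ^ (n + 1) * PowerSeries.mk 1) by
      rw [PowerSeries.coeff_mul, Finset.Nat.sum_antidiagonal_eq_sum_range_succ_mk]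
      simp]
    have hg : (PowerSeries.mk 1 : PowerSeries R) * (1 - PowerSeries.X) = 1 := PowerSeries.mk_one_mul_one_sub_eq_one R
    rcases Nat.eq_zero_or_pos k with rfl | hk0
    · rw [if_pos rfl, mul_zero, pow_zero, mul_one]
      have hsum : (u + PowerSeries.X * PowerSeries.derivative R u) *
          ∑ m ∈ Finset.range (n + 1), (PowerSeries.X * u) ^ m =
          (j : PowerSeries R) * PowerSeries.mk 1 * (1 - (PowerSeries.X * u) ^ (n + 1)) := by
        have h2 : (1 - PowerSeries.X : PowerSeries R) ^ j = 1 - PowerSeries.X * u := by rw [hsu, sub_sub_cancel]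
        calc _ = ((j : PowerSeries R) * (1 - PowerSeries.X) ^ (j - 1) *
              (PowerSeries.mk 1 * (1 - PowerSeries.X))) * ∑ m ∈ Finset.range (n + 1), (PowerSeries.X * u) ^ m := by
              rw [hg, mul_one, hs']
          _ = (j : PowerSeries R) * PowerSeries.mk 1 * (((1 - PowerSeries.X) ^ (j - 1) * (1 - PowerSeries.X)) *
              ∑ m ∈ Finset.range (n + 1), (PowerSeries.X * u) ^ m) := by ring
          _ = _ := by
              rw [← pow_succ, show j - 1 + 1 = j by omega, h2, mul_comm (1 - PowerSeries.X * u),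
                geom_sum_mul_neg]
      have h3 : (j : PowerSeries R) * v ^ (n + 1) * PowerSeries.mk 1 =
          (∑ m ∈ Finset.range (n + 1), (PowerSeries.X * u) ^ m *
            (u + PowerSeries.X * PowerSeries.derivative R u) * v ^ (n + 1)) +
          PowerSeries.X ^ (n + 1) * ((j : PowerSeries R) * PowerSeries.mk 1 * (u * v) ^ (n + 1)) := by
        rw [← Finset.sum_mul, ← Finset.sum_mul, mul_comm (∑ m ∈ _, _) (u + _), hsum]
        ring
      rw [h3, map_add, map_sum, PowerSeries.coeff_X_pow_mul', if_neg (by omega), add_zero,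
        Finset.sum_congr rfl fun m hm => coeff_residue u v hv (Finset.mem_range_succ_iff.1 hm),
        Finset.sum_ite_eq' (Finset.range (n + 1)) n fun _ => (1 : R), if_pos (Finset.self_mem_range_succ n)]
    · rw [if_neg (by omega)]
      obtain ⟨c, rfl⟩ := Nat.exists_eq_add_of_le' hk0
      have h3 : (j : PowerSeries R) * (1 - PowerSeries.X) ^ (j * (c + 1)) * v ^ (n + 1) * PowerSeries.mk 1 =
          ∑ m ∈ Finset.range (c + 1), ((-1 : R) ^ m * (c.choose m : R)) •
            ((PowerSeries.X * u) ^ m * (u + PowerSeries.X * PowerSeries.derivative R u) * v ^ (n + 1)) := by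
        have h4 : (1 - PowerSeries.X : PowerSeries R) ^ (j * c) = (-(PowerSeries.X * u) + 1) ^ c := by
          rw [pow_mul, hsu]; ring
        have h5 : j * (c + 1) = j * c + (j - 1) + 1 := by
          rw [Nat.mul_succ]; omega
        rw [h5, pow_succ, pow_add, h4, add_pow, hs']
        calc _ = ((∑ m ∈ Finset.range (c + 1), (-(PowerSeries.X * u)) ^ m * 1 ^ (c - m) * (c.choose m : PowerSeries R)) *
              ((j : PowerSeries R) * (1 - PowerSeries.X) ^ (j - 1)) * v ^ (n + 1)) *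
              (PowerSeries.mk 1 * (1 - PowerSeries.X)) := by ring
          _ = _ := by
            rw [hg, mul_one, Finset.sum_mul, Finset.sum_mul]
            refine Finset.sum_congr rfl fun m _ => ?_
            rw [PowerSeries.smul_eq_C_mul, map_mul, map_pow, map_neg, map_one, map_natCast, neg_pow, one_pow]
            ring
      rw [h3, map_sum]
      refine Finset.sum_eq_zero fun m hm => ?_
      have := Finset.mem_range_succ_iff.1 hm
      rw [PowerSeries.coeff_smul, coeff_residue u v hv (by omega), if_neg (by omega), smul_zero]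

end Series

/-- The model identities behind Adams Riemann-Roch. -/
theorem adams_push {n : ℕ} {Y : Scheme.{u}} [IsNoetherian Y] [ConnectedSpace ↥Y]
    {R : Type} [CommRing R] [IsDomain R] [CharZero R]
    (KP : Type v) [CommRing KP] [LambdaOps KP] (PP : PosStructure KP)
    (φP : SGA6.Kvb (KRR.PY n Y) →+ KP) (hKP : KRR.IsModel (KRR.PY n Y) KP PP φP)
    (KY : Type v) [CommRing KY] [LambdaOps KY] (PY : PosStructure KY)
    (φY : SGA6.Kvb Y →+ KY) (hKY : KRR.IsModel Y KY PY φY)
    (g : KP →+ KY) (hg : KRR.IsPushPr n Y φP φY g) (j : ℕ) (hj : 1 ≤ j) (hjR : IsUnit (j : R)) (z : KP) :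
    (∃ w : R ⊗[ℤ] KP, w * ((1 : R) ⊗ₜ[ℤ] KRR.bott PP j (φP (KRR.cl (KRR.PY n Y)
      (KRR.twF n Y (-1) ((Scheme.Modules.pullback (KRR.pr n Y)).obj (FlatMod.freeMod Y (n + 1))))))) = 1) ∧
    ∀ w : R ⊗[ℤ] KP, w * ((1 : R) ⊗ₜ[ℤ] KRR.bott PP j (φP (KRR.cl (KRR.PY n Y)
      (KRR.twF n Y (-1) ((Scheme.Modules.pullback (KRR.pr n Y)).obj (FlatMod.freeMod Y (n + 1))))))) = 1 →
    (1 : R) ⊗ₜ[ℤ] adams PY j (g z) =
      LinearMap.lTensor R g.toIntLinearMap ((j : R ⊗[ℤ] KP) * ((1 : R) ⊗ₜ[ℤ] adams PP j z) * w) := by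
  obtain ⟨q, hq, -⟩ := KRRLib.existsUnique_isPull (KX := KP) (KY := KY) (KRR.pr n Y) φP φY hKY.bijective
  let Q : KY →+* KP := { q with map_one' := ResK0.PullLam.map_one hKP hKY hq
                                map_mul' := ResK0.PullLam.map_mul hKP hKY hq }
  have hQ : Lambda.LHom Q := (Lambda.lHom_iff Q).2 fun i x => ResK0.PullLam.map_lam hKP hKY hq i x
  let l₁ : KP := φP (KRR.cl (KRR.PY n Y) (Twist.twistOver n Y (-1)))
  let t : KP := 1 - l₁
  have hline : ∀ m : ℕ, φP (KRR.cl (KRR.PY n Y) (Twist.twistOver n Y (-(m : ℤ)))) = l₁ ^ m := by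
    intro m
    induction m with
    | zero =>
      rw [pow_zero, ← hKP.map_one]
      exact congrArg φP (S3205.clSub_congr
        (eqToIso (by simp) ≪≫ KRRLib.twistZero : Twist.twistOver n Y (-((0 : ℕ) : ℤ)) ≅ _).hom
        (isFinLocFree_one (LFFrame.isInvertible_structureModule _)))
    | succ m ih =>
      rw [pow_succ, ← ih, hKP.map_mul _ _ (isFinLocFree_twistOver _) (isFinLocFree_twistOver _)]
      exact congrArg φP (S3205.clSub_congr
        (KRRLib.twistAdd (-(m : ℤ)) (-1) (-((m + 1 : ℕ) : ℤ)) (by push_cast; ring)).inv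
        (isFinLocFree_tensorMod (isFinLocFree_twistOver _) (isFinLocFree_twistOver _)))
  have hgl : ∀ k, k ≤ n → g (l₁ ^ k) = if k = 0 then 1 else 0 := fun k hk => by
    rw [← hline, push_twistOver_cases φP φY g hg k hk, hKY.map_one]
  have hgt : ∀ i, i ≤ n → g (t ^ i) = 1 := fun i hi => by
    show g ((1 - l₁) ^ i) = 1
    rw [sub_eq_add_neg, add_comm, add_pow, map_sum, Finset.sum_eq_single 0]
    · have := hgl 0 (Nat.zero_le n)
      simpa using this
    · intro m hm hm0
      have := Finset.mem_range_succ_iff.1 hm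
      rw [show (-l₁) ^ m * 1 ^ (i - m) * (i.choose m : KP) = ((-1 : ℤ) ^ m * (i.choose m : ℤ)) • l₁ ^ m by
        rw [one_pow, neg_pow, zsmul_eq_mul]; push_cast; ring, map_zsmul, hgl m (by omega), if_neg hm0, smul_zero]
    · intro h; simp at h
  have hrel : t ^ (n + 1) = 0 := by
    have h := congrArg φP (relation_twistOver (n := n) (Y := Y) (-((n + 1 : ℕ) : ℤ)))
    rw [hline, map_R] at h
    have hv : ∀ j : ℕ, j ≤ n + 1 →
        φP (KRR.cl (KRR.PY n Y) (Twist.twistOver n Y ((j : ℤ) + -((n + 1 : ℕ) : ℤ)))) = l₁ ^ (n + 1 - j) := fun j hj => by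
      rw [show (j : ℤ) + -((n + 1 : ℕ) : ℤ) = -(((n + 1 - j : ℕ)) : ℤ) by omega, hline]
    simp only [KRR49.R] at h
    rw [hv (n + 1) le_rfl, Nat.sub_self, pow_zero,
      Finset.sum_congr rfl (fun p hp => by
        rw [hv (n - p) (by omega), show n + 1 - (n - p) = p + 1 by have := Finset.mem_range.1 hp; omega])] at h
    have hsq : (-1 : KP) ^ n * (-1 : KP) ^ n = 1 := by rw [← mul_pow]; simp
    simp only [zsmul_eq_mul, Int.cast_pow, Int.cast_neg, Int.cast_one, Int.cast_mul, Int.cast_natCast] at h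
    show (1 - l₁) ^ (n + 1) = 0
    rw [sub_eq_add_neg, add_comm, add_pow, Finset.sum_range_succ' _ (n + 1), Finset.sum_range_succ]
    have hsum : ∑ i ∈ Finset.range n, (-l₁) ^ (i + 1) * 1 ^ (n + 1 - (i + 1)) * ((n + 1).choose (i + 1) : KP) =
        - ∑ p ∈ Finset.range n, (-1 : KP) ^ p * ((n + 1).choose (p + 1) : KP) * l₁ ^ (p + 1) := by
      rw [← Finset.sum_neg_distrib]
      refine Finset.sum_congr rfl fun p _ => ?_
      rw [one_pow, neg_pow l₁, pow_succ (-1 : KP)]
      ring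
    rw [hsum, neg_pow l₁ (n + 1), pow_succ (-1 : KP) n]
    simp only [one_pow, Nat.choose_self, Nat.cast_one, pow_zero, Nat.choose_zero_right, one_mul, mul_one]
    linear_combination (-(-1 : KP) ^ n) * h + ((-(1 : KP)) + ∑ p ∈ Finset.range n,
      (-1 : KP) ^ p * ((n + 1).choose (p + 1) : KP) * l₁ ^ (p + 1)) * hsq
  -- polynomials in `1 ⊗ t`
  let T : R ⊗[ℤ] KP := (1 : R) ⊗ₜ[ℤ] t
  let ev : Polynomial R →+* R ⊗[ℤ] KP :=
    Polynomial.eval₂RingHom (Algebra.TensorProduct.includeLeftRingHom) T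
  have hevX : ev Polynomial.X = T := Polynomial.eval₂_X _ _
  have hT : T ^ (n + 1) = 0 := by
    show ((1 : R) ⊗ₜ[ℤ] t) ^ (n + 1) = 0
    rw [Algebra.TensorProduct.tmul_pow, hrel, TensorProduct.tmul_zero]
  have hev1 : ∀ m : ℕ, ev ((1 - Polynomial.X) ^ m) = (1 : R) ⊗ₜ[ℤ] (l₁ ^ m) := fun m => by
    rw [map_pow, map_sub, map_one, hevX, show (1 : R ⊗[ℤ] KP) - T = (1 : R) ⊗ₜ[ℤ] l₁ by
      show (1 : R ⊗[ℤ] KP) - (1 : R) ⊗ₜ[ℤ] (1 - l₁) = _
      rw [TensorProduct.tmul_sub, Algebra.TensorProduct.one_def, sub_sub_cancel],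
      Algebra.TensorProduct.tmul_pow, one_pow]
  -- the Bott class
  set b := φP (KRR.cl (KRR.PY n Y)
    (KRR.twF n Y (-1) ((Scheme.Modules.pullback (KRR.pr n Y)).obj (FlatMod.freeMod Y (n + 1))))) with hb
  have hfree : FlatMod.IsFinLocFree (FlatMod.freeMod Y (n + 1)) := ResK0.Rank.isFinLocFree_freeMod _
  have hb' : b = ((n + 1 : ℕ) : KP) * l₁ := by
    have h1 : φP (KRR.cl (KRR.PY n Y) ((Scheme.Modules.pullback (KRR.pr n Y)).obj (FlatMod.freeMod Y (n + 1)))) =
        ((n + 1 : ℕ) : KP) := by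
      rw [← hq _ hfree, ResK0.Rank.cl_freeMod, map_nsmul, hKY.map_one, map_nsmul,
        ResK0.PullLam.map_one hKP hKY hq, nsmul_one]
    rw [mul_comm, ← h1, hb, hKP.map_mul _ _ (isFinLocFree_twistOver (-1))
      (KFlat.LocFree.isFinLocFree_pull _ hfree)]
    rfl
  have h1' := Lambda.pos_lam_one PP
  have hlamb : ∀ i, LambdaOps.lam i b = (((n + 1).choose i : ℕ) : KP) * l₁ ^ i := by
    intro i
    have hE : FlatMod.IsFinLocFreeOfRank (n + 1)
        ((Scheme.Modules.pullback (KRR.pr n Y)).obj (FlatMod.freeMod Y (n + 1))) :=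
      ResK0.PullLam.ofRank_pull (KRR.pr n Y) (fun x => ⟨⊤, trivial, ⟨(Scheme.Modules.restrictFunctorIsoPullback _).app _ ≪≫ KFlat.LocFree.pullFreeIso _ _⟩⟩)
    have hEc : φP (KRR.cl (KRR.PY n Y) ((Scheme.Modules.pullback (KRR.pr n Y)).obj (FlatMod.freeMod Y (n + 1)))) =
        ((n + 1 : ℕ) : KP) := by
      rw [← hq _ hfree, ResK0.Rank.cl_freeMod, map_nsmul, hKY.map_one, map_nsmul,
        ResK0.PullLam.map_one hKP hKY hq, nsmul_one]
    rw [hb', ← hEc, lam_mul_line hKP hE (ProjTwist.isFinLocFreeOfRank_one (KRRLib.isInvertible_twistOver (-1))) i,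
      hEc, ← Lambda.coeff_lamSeries, Lambda.lamSeries_natCast h1',
      show (1 + PowerSeries.X : PowerSeries KP) ^ (n + 1) = ((1 + Polynomial.X : Polynomial KP) ^ (n + 1) : Polynomial KP) by simp,
      Polynomial.coeff_coe, Polynomial.coeff_one_add_X_pow]
  have haugb : (PP.aug b).toNat = n + 1 := by
    rw [hb', map_mul, map_natCast,
      hKP.aug_cl 1 _ (ProjTwist.isFinLocFreeOfRank_one (KRRLib.isInvertible_twistOver (-1)))]
    simp
  have hbott : KRR.bott PP j b = (∑ i ∈ Finset.range j, l₁ ^ i) ^ (n + 1) := by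
    rw [KRR.bott]
    generalize hN : (PP.aug b).toNat = N
    rw [haugb] at hN
    subst hN
    have h2 : MvPolynomial.aeval (fun _ : Fin (n + 1) => l₁)
        ((MvPolynomial.esymmAlgEquiv (Fin (n + 1)) ℤ (Fintype.card_fin _)
          (KRR.bottPoly j (n + 1)) : MvPolynomial (Fin (n + 1)) ℤ)) = (∑ i ∈ Finset.range j, l₁ ^ i) ^ (n + 1) := by
      rw [KRR.bottPoly, AlgEquiv.apply_symm_apply]
      simp [KRR.bottSym]
    rw [← h2]
    show _ = MvPolynomial.aeval _ (MvPolynomial.esymmAlgHom (Fin (n + 1)) ℤ (n + 1) (KRR.bottPoly j (n + 1))).val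
    rw [MvPolynomial.esymmAlgHom_apply, MvPolynomial.aeval_eq_bind₁, MvPolynomial.aeval_bind₁]
    congr 2
    funext i
    rw [hlamb, MvPolynomial.esymm, map_sum,
      Finset.sum_congr rfl (g := fun _ => l₁ ^ (i.1 + 1)) fun s hs => by
        simp [map_prod, (Finset.mem_powersetCard.1 hs).2],
      Finset.sum_const, Finset.card_powersetCard, Finset.card_univ, Fintype.card_fin, nsmul_eq_mul]
  obtain ⟨W, hW1, hW2⟩ := exists_multiplier (R := R) n j hj hjR
  have hθ : ev (geomPow j ^ (n + 1)) = (1 : R) ⊗ₜ[ℤ] KRR.bott PP j b := by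
    rw [hbott, map_pow, geomPow, map_sum, Finset.sum_congr rfl fun i _ => hev1 i, ← TensorProduct.tmul_sum,
      Algebra.TensorProduct.tmul_pow, one_pow]
  have hWθ : ev W * ((1 : R) ⊗ₜ[ℤ] KRR.bott PP j b) = 1 := by
    obtain ⟨p, hp⟩ := hW1
    rw [← hθ, ← map_mul, ← sub_eq_zero, ← map_one ev, ← map_sub, hp, map_mul, map_pow, hevX, hT, zero_mul]
  refine ⟨⟨ev W, hWθ⟩, fun w hw => ?_⟩
  obtain rfl : w = ev W := by
    calc w = w * (ev W * ((1 : R) ⊗ₜ[ℤ] KRR.bott PP j b)) := by rw [hWθ, mul_one]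
      _ = ev W * (w * ((1 : R) ⊗ₜ[ℤ] KRR.bott PP j b)) := by ring
      _ = ev W := by rw [hw, mul_one]
  -- the functional
  let G := LinearMap.lTensor R g.toIntLinearMap
  have hGev : ∀ (P : Polynomial R) (y : KY), G ((1 : R) ⊗ₜ[ℤ] q y * ev P) =
      (∑ i ∈ Finset.range (n + 1), P.coeff i) ⊗ₜ[ℤ] y := by
    intro P y
    induction P using Polynomial.induction_on' with
    | add p p' hp hp' =>
      rw [map_add, mul_add, map_add, hp, hp', ← TensorProduct.add_tmul, ← Finset.sum_add_distrib]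
      simp only [Polynomial.coeff_add]
    | monomial m a =>
      rw [← Polynomial.C_mul_X_pow_eq_monomial, map_mul ev, map_pow, hevX,
        show ev (Polynomial.C a) = a ⊗ₜ[ℤ] (1 : KP) from Polynomial.eval₂_C _ _]
      show G (_ * (a ⊗ₜ[ℤ] (1 : KP) * ((1 : R) ⊗ₜ[ℤ] t) ^ m)) = _
      rw [Algebra.TensorProduct.tmul_pow, Algebra.TensorProduct.tmul_mul_tmul, Algebra.TensorProduct.tmul_mul_tmul,
        LinearMap.lTensor_tmul, one_pow, mul_one, one_mul, one_mul, AddMonoidHom.coe_toIntLinearMap]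
      simp only [Polynomial.coeff_C_mul_X_pow, Finset.sum_ite_eq']
      by_cases hm : m ≤ n
      · rw [if_pos (Finset.mem_range_succ_iff.2 hm), mul_comm,
          S3762.result n Y KP PP φP hKP KY PY φY hKY g hg q hq, hgt m hm, one_mul]
      · rw [if_neg (fun h => hm (Finset.mem_range_succ_iff.1 h)),
          show t ^ m = t ^ (n + 1) * t ^ (m - (n + 1)) by rw [← pow_add]; congr 1; omega, hrel, zero_mul,
          mul_zero, map_zero, TensorProduct.tmul_zero, TensorProduct.zero_tmul]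
  let incY : KY →+ R ⊗[ℤ] KY := (TensorProduct.mk ℤ R KY 1).toAddMonoidHom
  let A : KP →+ R ⊗[ℤ] KY := incY.comp ((AddMonoidHom.mk' (fun x => adamsOp j x) (Lambda.adamsOp_add j)).comp g)
  let B : KP →+ R ⊗[ℤ] KY := AddMonoidHom.mk'
    (fun x => G ((j : R ⊗[ℤ] KP) * ((1 : R) ⊗ₜ[ℤ] adamsOp j x) * ev W)) fun x y => by
      rw [Lambda.adamsOp_add, TensorProduct.tmul_add, mul_add, add_mul, map_add]
  suffices hAB : A.comp φP = B.comp φP by
    obtain ⟨w, rfl⟩ := hKP.bijective.2 z
    rw [Lambda.adams_eq PY hj, Lambda.adams_eq PP hj]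
    exact DFunLike.congr_fun hAB w
  refine hom_ext_pull fun E hE k hk => ?_
  have hP := KFlat.LocFree.isFinLocFree_pull (KRR.pr n Y) hE
  obtain ⟨r, hr⟩ := exists_ofRank hE
  have hPr := ResK0.PullLam.ofRank_pull (KRR.pr n Y) hr
  have hz : φP (KRR.cl (KRR.PY n Y) (KRR.twF n Y (-(k : ℤ)) ((Scheme.Modules.pullback (KRR.pr n Y)).obj E))) =
      q (φY (KRR.cl Y E)) * l₁ ^ k := by
    rw [hq E hE, ← hline k, mul_comm, hKP.map_mul _ _ (isFinLocFree_twistOver _) hP]
    rfl
  set y := φY (KRR.cl Y E)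
  have hψ : adamsOp j (q y * l₁ ^ k) = q (adamsOp j y) * l₁ ^ (j * k) := by
    have hser : lamSeries (q y * l₁ ^ k) = PowerSeries.rescale (l₁ ^ k) (lamSeries (q y)) := by
      ext i
      rw [PowerSeries.coeff_rescale, Lambda.coeff_lamSeries, Lambda.coeff_lamSeries, hq E hE, ← hline k,
        lam_mul_line hKP hPr (ProjTwist.isFinLocFreeOfRank_one (KRRLib.isInvertible_twistOver _)) i, mul_comm]
    rw [Lambda.adamsOp_eq_psi, hser, Lambda.psi_rescale (Lambda.cc_lamSeries _), ← Lambda.adamsOp_eq_psi,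
      show q (adamsOp j y) = Q (adamsOp j y) from rfl, hQ.map_adamsOp, ← pow_mul, mul_comm k j, mul_comm]
    rfl
  show (1 : R) ⊗ₜ[ℤ] adamsOp j (g (φP _)) = G ((j : R ⊗[ℤ] KP) * ((1 : R) ⊗ₜ[ℤ] adamsOp j (φP _)) * ev W)
  rw [hz, hψ]
  have hR : (j : R ⊗[ℤ] KP) * ((1 : R) ⊗ₜ[ℤ] (q (adamsOp j y) * l₁ ^ (j * k))) * ev W =
      (1 : R) ⊗ₜ[ℤ] q (adamsOp j y) * ev ((j : Polynomial R) * (1 - Polynomial.X) ^ (j * k) * W) := by
    rw [map_mul ev, map_mul ev, map_natCast, hev1,
      show (1 : R) ⊗ₜ[ℤ] (q (adamsOp j y) * l₁ ^ (j * k)) =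
        ((1 : R) ⊗ₜ[ℤ] q (adamsOp j y)) * ((1 : R) ⊗ₜ[ℤ] (l₁ ^ (j * k))) by
        rw [Algebra.TensorProduct.tmul_mul_tmul, one_mul]]
    ring
  rw [hR, hGev, hW2 k hk, mul_comm (q y), S3762.result n Y KP PP φP hKP KY PY φY hKY g hg q hq, hgl k hk]
  split_ifs with h0
  · rw [one_mul]
  · rw [zero_mul, Lambda.adamsOp_zero_arg, TensorProduct.tmul_zero, TensorProduct.zero_tmul]

end Groth.Agent.KRR49
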