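import Groth.Agent.CohDev.Loc
import Groth.Agent.LimTop.PullSec
import Groth.Agent.CohBase.FlatBC.Lift
import Groth.Agent.GrModLib.LocalLift
import Mathlib.AlgebraicGeometry.AffineSpace
import Mathlib.Algebra.MvPolynomial.Division

/-!
# The zero section of the affine line and classes of coherent modules
-/

set_option autoImplicit false
set_option linter.style.haveILetI false

universe u

open CategoryTheory Limits AlgebraicGeometry Opposite TopologicalSpace MvPolynomial
open scoped AlgebraicGeometry TensorProduct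

noncomputable section

namespace Groth.Agent.KRR49.AffLineZero


variable {X : Scheme.{u}}

abbrev p (X : Scheme.{u}) : 𝔸((ULift.{u} (Fin 1)); X) ⟶ X := 𝔸((ULift.{u} (Fin 1)); X) ↘ X

abbrev t (X : Scheme.{u}) : Γ(𝔸((ULift.{u} (Fin 1)); X), ⊤) := AffineSpace.coord X (ULift.up (0 : Fin 1))

abbrev tAt (X : Scheme.{u}) (W : (𝔸((ULift.{u} (Fin 1)); X)).Opens) : Γ(𝔸((ULift.{u} (Fin 1)); X), W) :=
  (𝔸((ULift.{u} (Fin 1)); X)).presheaf.map (homOfLE (le_top : W ≤ ⊤)).op (t X)

def zeroSec (X : Scheme.{u}) : X ⟶ 𝔸((ULift.{u} (Fin 1)); X) := AffineSpace.homOfVector (𝟙 X) 0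

theorem zeroSec_p : zeroSec X ≫ p X = 𝟙 X := AffineSpace.homOfVector_over _ _

theorem zeroSec_t : (zeroSec X).appTop (t X) = 0 := AffineSpace.homOfVector_appTop_coord _ _ _

/-- The sections over the preimage of an affine open are polynomials. -/
def evalSec (U : X.Opens) : MvPolynomial (ULift.{u} (Fin 1)) Γ(X, U) →+* Γ(𝔸((ULift.{u} (Fin 1)); X), p X ⁻¹ᵁ U) :=
  eval₂Hom ((p X).app U).hom fun _ => tAt X _

theorem bijective_evalSec {U : X.Opens} (hU : IsAffineOpen U) : Function.Bijective (evalSec U) := by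
  haveI : IsOpenImmersion (AffineSpace.map (ULift.{u} (Fin 1)) hU.fromSpec) :=
    MorphismProperty.of_isPullback (P := @IsOpenImmersion) (AffineSpace.isPullback_map (n := (ULift.{u} (Fin 1))) hU.fromSpec).flip
      hU.isOpenImmersion_fromSpec
  let j := (AffineSpace.SpecIso (ULift.{u} (Fin 1)) Γ(X, U)).inv ≫ AffineSpace.map (ULift.{u} (Fin 1)) hU.fromSpec
  have hj : j ≫ p X = Spec.map (CommRingCat.ofHom MvPolynomial.C) ≫ hU.fromSpec := by
    simp only [j, Category.assoc, AffineSpace.map_over, AffineSpace.SpecIso_inv_over_assoc]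
  have hr : j.opensRange = p X ⁻¹ᵁ U := by
    apply le_antisymm
    · rintro _ ⟨z, rfl⟩
      show p X (j z) ∈ U
      rw [← Scheme.Hom.comp_apply, hj, Scheme.Hom.comp_apply]
      exact hU.range_fromSpec.le ⟨_, rfl⟩
    · intro z hz
      obtain ⟨v, hv⟩ := hU.range_fromSpec.ge hz
      obtain ⟨w, hw, -⟩ := Scheme.exists_preimage_of_isPullback
        (AffineSpace.isPullback_map (n := (ULift.{u} (Fin 1))) hU.fromSpec) z v hv.symm
      refine ⟨(AffineSpace.SpecIso (ULift.{u} (Fin 1)) Γ(X, U)).hom w, ?_⟩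
      rw [← Scheme.Hom.comp_apply, Iso.hom_inv_id_assoc]
      exact hw
  have hpre : j ⁻¹ᵁ (p X ⁻¹ᵁ U) = ⊤ := by rw [← hr]; exact j.preimage_opensRange
  haveI : IsIso (j.appLE (p X ⁻¹ᵁ U) ⊤ hpre.ge) := by
    haveI := j.isIso_app (p X ⁻¹ᵁ U) hr.ge
    haveI : IsIso (homOfLE hpre.ge) := ⟨homOfLE le_top, Subsingleton.elim _ _, Subsingleton.elim _ _⟩
    rw [Scheme.Hom.appLE]
    infer_instance
  let ε := j.appLE (p X ⁻¹ᵁ U) ⊤ hpre.ge ≫ (Scheme.ΓSpecIso _).hom
  have hε : Function.Bijective ε := ConcreteCategory.bijective_of_isIso ε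
  have key : ε.hom.comp (evalSec U) = RingHom.id _ := by
    refine MvPolynomial.ringHom_ext (fun r => ?_) fun i => ?_
    · simp only [RingHom.comp_apply, evalSec, eval₂Hom_C, RingHom.id_apply]
      have e : (p X).app U ≫ j.appLE (p X ⁻¹ᵁ U) ⊤ hpre.ge =
          (Scheme.ΓSpecIso Γ(X, U)).inv ≫ (Spec.map (CommRingCat.ofHom MvPolynomial.C)).appTop := by
        rw [← Scheme.Hom.comp_appLE]
        simp only [hj]
        rw [Scheme.Hom.comp_appLE, IsAffineOpen.fromSpec_app_self, Category.assoc, Scheme.Hom.map_appLE]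
        simp [Scheme.Hom.appLE]
      change ((p X).app U ≫ j.appLE (p X ⁻¹ᵁ U) ⊤ hpre.ge ≫ (Scheme.ΓSpecIso _).hom).hom r = _
      rw [reassoc_of% e, Scheme.ΓSpecIso_naturality, Iso.inv_hom_id_assoc]
      rfl
    · simp only [RingHom.comp_apply, evalSec, eval₂Hom_X', RingHom.id_apply]
      show (Scheme.ΓSpecIso _).hom (j.appLE (p X ⁻¹ᵁ U) ⊤ hpre.ge ((𝔸((ULift.{u} (Fin 1)); X)).presheaf.map _ (t X))) = _
      rw [← CommRingCat.comp_apply _ (j.appLE _ _ _), Scheme.Hom.map_appLE]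
      rw [show j.appLE ⊤ ⊤ _ = j.appTop by simp [Scheme.Hom.appLE]]
      rw [show j.appTop (t X) = (AffineSpace.SpecIso (ULift.{u} (Fin 1)) Γ(X, U)).inv.appTop
        ((AffineSpace.map (ULift.{u} (Fin 1)) hU.fromSpec).appTop (t X)) from by
          rw [Scheme.Hom.comp_appTop]; rfl]
      rw [t, AffineSpace.map_appTop_coord, AffineSpace.SpecIso_inv_appTop_coord, ← CommRingCat.comp_apply,
        Iso.inv_hom_id]
      obtain rfl : i = ULift.up 0 := Subsingleton.elim _ _
      rfl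
  have h2 : Function.Bijective (ε.hom.comp (evalSec U)) := by rw [key]; exact Function.bijective_id
  exact (hε.of_comp_iff' _).mp h2

theorem mem_span_X_of_eval {R : Type u} [CommRing R] (q : MvPolynomial (ULift.{u} (Fin 1)) R) :
    q - C (eval 0 q) ∈ Ideal.span {(MvPolynomial.X (ULift.up 0) : MvPolynomial (ULift.{u} (Fin 1)) R)} := by
  induction q using MvPolynomial.induction_on with
  | C a => simp
  | add a b ha hb =>
    have := Ideal.add_mem _ ha hb
    rw [map_add, map_add]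
    convert this using 1
    ring
  | mul_X a i ha =>
    obtain rfl : i = ULift.up 0 := Subsingleton.elim _ _
    simp only [map_mul, eval_X, Pi.zero_apply, mul_zero, map_zero, sub_zero]
    exact Ideal.mul_mem_left _ _ (Ideal.mem_span_singleton_self _)

theorem preimage_zeroSec (U : X.Opens) : zeroSec X ⁻¹ᵁ (p X ⁻¹ᵁ U) = U := by
  rw [← Scheme.Hom.comp_preimage, zeroSec_p]
  rfl

theorem ker_zeroSec [IsAffineHom (p X)] [IsClosedImmersion (zeroSec X)] :
    (zeroSec X).ker = Scheme.IdealSheafData.ofIdealTop (Ideal.span {t X}) := by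
  refine Scheme.IdealSheafData.ext_of_iSup_eq_top
    (fun U : X.affineOpens => ⟨p X ⁻¹ᵁ U.1, U.2.preimage (p X)⟩) ?_ fun U => ?_
  · rw [← Scheme.Hom.preimage_iSup, iSup_affineOpens_eq_top]
    rfl
  let W : (𝔸((ULift.{u} (Fin 1)); X)).Opens := p X ⁻¹ᵁ U.1
  rw [Scheme.IdealSheafData.ofIdealTop_ideal, Ideal.map_span, Set.image_singleton, Scheme.Hom.ker_apply]
  ext x
  obtain ⟨q, rfl⟩ := (bijective_evalSec U.2).2 x
  have hle : U.1 ≤ zeroSec X ⁻¹ᵁ W := (preimage_zeroSec U.1).ge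
  have hinj : Function.Injective (X.presheaf.map (homOfLE hle).op) := by
    haveI : IsIso (homOfLE hle) :=
      ⟨homOfLE (preimage_zeroSec U.1).le, Subsingleton.elim _ _, Subsingleton.elim _ _⟩
    exact (ConcreteCategory.bijective_of_isIso _).1
  have hev : ((zeroSec X).appLE W U.1 hle).hom.comp (evalSec U.1) = eval 0 := by
    refine MvPolynomial.ringHom_ext (fun r => ?_) fun i => ?_
    · simp only [RingHom.comp_apply, evalSec, eval₂Hom_C, eval_C]
      show (zeroSec X).appLE W U.1 hle ((p X).app U.1 r) = r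
      have e0 : ∀ (g : X ⟶ X) (h' : U.1 ≤ g ⁻¹ᵁ U.1), g = 𝟙 X → g.appLE U.1 U.1 h' = 𝟙 _ := by
        rintro _ h' rfl
        simp only [Scheme.Hom.appLE, Scheme.Hom.id_app]
        exact (Category.id_comp _).trans (X.presheaf.map_id _)
      rw [← CommRingCat.comp_apply, ← Scheme.Hom.comp_appLE, e0 _ _ zeroSec_p]
      rfl
    · simp only [RingHom.comp_apply, evalSec, eval₂Hom_X', eval_X, Pi.zero_apply]
      show (zeroSec X).appLE W U.1 hle ((𝔸((ULift.{u} (Fin 1)); X)).presheaf.map _ (t X)) = 0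
      rw [← CommRingCat.comp_apply, Scheme.Hom.map_appLE]
      show X.presheaf.map _ ((zeroSec X).appTop (t X)) = 0
      rw [zeroSec_t, map_zero]
  rw [RingHom.mem_ker]
  refine ⟨fun h => ?_, fun h => ?_⟩
  · have h0 : eval 0 q = 0 := by
      rw [← hev]
      show X.presheaf.map (homOfLE hle).op ((zeroSec X).app W (evalSec U.1 q)) = 0
      rw [show (zeroSec X).app W (evalSec U.1 q) = 0 from h, map_zero]
    have h1 := mem_span_X_of_eval q
    rw [h0, map_zero, sub_zero] at h1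
    have h2 := Ideal.mem_map_of_mem (evalSec U.1) h1
    rwa [Ideal.map_span, Set.image_singleton, evalSec, eval₂Hom_X'] at h2
  · obtain ⟨a, ha⟩ := Ideal.mem_span_singleton'.mp h
    refine hinj ?_
    rw [map_zero]
    show (zeroSec X).appLE W U.1 hle (evalSec U.1 q) = 0
    rw [← ha, map_mul]
    refine mul_eq_zero_of_right _ ?_
    show (zeroSec X).appLE W U.1 hle ((𝔸((ULift.{u} (Fin 1)); X)).presheaf.map _ (t X)) = 0
    rw [← CommRingCat.comp_apply, Scheme.Hom.map_appLE]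
    show X.presheaf.map _ ((zeroSec X).appTop (t X)) = 0
    rw [zeroSec_t, map_zero]

theorem killed_of_smul {C : (𝔸((ULift.{u} (Fin 1)); X)).Modules} [IsAffineHom (p X)] [IsClosedImmersion (zeroSec X)]
    (h : ∀ (V : (𝔸((ULift.{u} (Fin 1)); X)).Opens) (m : Γ(C, V)), tAt X V • m = 0) :
    CohDev.Killed (zeroSec X).ker C := by
  intro V a ha m
  rw [ker_zeroSec, Scheme.IdealSheafData.ofIdealTop_ideal, Ideal.map_span, Set.image_singleton] at ha
  obtain ⟨b, rfl⟩ := Ideal.mem_span_singleton'.mp ha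
  rw [mul_smul]
  show b • tAt X V.1 • m = 0
  rw [h, smul_zero]

/-- A polynomial ring retracts multiplication by the variable. -/
def retrX (R : Type u) [CommRing R] : MvPolynomial (ULift.{u} (Fin 1)) R →ₗ[R] MvPolynomial (ULift.{u} (Fin 1)) R where
  toFun q := MvPolynomial.divMonomial q (Finsupp.single (ULift.up 0) 1)
  map_add' a b := add_divMonomial a b _
  map_smul' r a := MvPolynomial.ext _ _ fun s => by
    simp [coeff_divMonomial]

theorem mono_smulEnd_pullback [IsAffineHom (p X)] (F : X.Modules) [F.IsQuasicoherent] :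
    Mono (CohBase.FlatBC.smulEnd ((Scheme.Modules.pullback (p X)).obj F) (t X)) := by
  let N := (Scheme.Modules.pullback (p X)).obj F
  refine GrModLib.mono_of_injective _ fun V s hs => ?_
  refine QCoh.eq_zero_of_locally_eq_zero N
    (U := fun U : X.affineOpens => V ⊓ p X ⁻¹ᵁ U.1) (fun _ => inf_le_left) (fun x hx => ?_) s fun U => ?_
  · obtain ⟨_, ⟨U, hU, rfl⟩, hxU, -⟩ :=
      X.isBasis_affineOpens.exists_subset_of_mem_open (Set.mem_univ (p X x)) isOpen_univ
    exact Opens.mem_iSup.mpr ⟨⟨U, hU⟩, hx, hxU⟩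
  let W : (𝔸((ULift.{u} (Fin 1)); X)).Opens := p X ⁻¹ᵁ U.1
  have hW : IsAffineOpen W := U.2.preimage (p X)
  let φ := ((p X).appLE U.1 W le_rfl).hom
  letI := φ.toAlgebra
  letI := LimTop.secModule (p X) F (U := U.1) (W := W) le_rfl
  haveI : IsScalarTower Γ(X, U.1) Γ(𝔸((ULift.{u} (Fin 1)); X), W) Γ(N, W) :=
    IsScalarTower.of_algebraMap_smul fun _ _ => rfl
  have hbc := LimTop.isBaseChange_unitSec (p X) F (U := U.1) (W := W) le_rfl U.2 hW
  have hφ : φ = ((p X).app U.1).hom := congrArg CommRingCat.Hom.hom (Scheme.Hom.app_eq_appLE _).symm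
  let e : MvPolynomial (ULift.{u} (Fin 1)) Γ(X, U.1) ≃ₐ[Γ(X, U.1)] Γ(𝔸((ULift.{u} (Fin 1)); X), W) :=
    AlgEquiv.ofBijective
      { toRingHom := evalSec U.1
        commutes' := fun r => by
          show evalSec U.1 (MvPolynomial.C r) = φ r
          rw [evalSec, eval₂Hom_C, hφ] }
      (bijective_evalSec U.2)
  have het : e (MvPolynomial.X (ULift.up 0)) = tAt X W := eval₂Hom_X' _ _ _
  let s' : Γ(𝔸((ULift.{u} (Fin 1)); X), W) →ₗ[Γ(X, U.1)] Γ(𝔸((ULift.{u} (Fin 1)); X), W) :=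
    e.toLinearMap ∘ₗ retrX Γ(X, U.1) ∘ₗ e.symm.toLinearMap
  have hs' : s' ∘ₗ LinearMap.mulLeft Γ(X, U.1) (tAt X W) = LinearMap.id := LinearMap.ext fun b => by
    show e (retrX _ (e.symm (tAt X W * b))) = b
    rw [map_mul, ← het, e.symm_apply_apply]
    show e (MvPolynomial.divMonomial (MvPolynomial.X (ULift.up 0) * e.symm b) _) = b
    rw [X_mul_divMonomial, e.apply_symm_apply]
  have hinj : ∀ z : Γ(N, W), tAt X W • z = 0 → z = 0 := fun z hz => by
    obtain ⟨y, rfl⟩ := hbc.equiv.surjective z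
    rw [← map_smul, map_eq_zero_iff _ hbc.equiv.injective] at hz
    have e1 : ∀ y : Γ(𝔸((ULift.{u} (Fin 1)); X), W) ⊗[Γ(X, U.1)] Γ(F, U.1),
        (LinearMap.mulLeft Γ(X, U.1) (tAt X W)).rTensor _ y = tAt X W • y := fun y => by
      induction y using TensorProduct.induction_on with
      | zero => simp
      | tmul a b => simp [TensorProduct.smul_tmul']
      | add a b ha hb => rw [map_add, smul_add, ha, hb]
    have h3 : s'.rTensor _ ((LinearMap.mulLeft Γ(X, U.1) (tAt X W)).rTensor Γ(F, U.1) y) = y := by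
      rw [← LinearMap.comp_apply, ← LinearMap.rTensor_comp, hs', LinearMap.rTensor_id]
      rfl
    rw [e1, hz, map_zero] at h3
    rw [← h3, map_zero]
  have hgerm : ∀ x ∈ W, ∀ z : N.presheaf.stalk x,
      ∀ a, (𝔸((ULift.{u} (Fin 1)); X)).presheaf.germ W x a (tAt X W) • z = 0 → z = 0 := by
    intro x hx z a hz
    letI := LimTop.stalkModule N hx
    haveI : N.IsQuasicoherent := inferInstance
    haveI := LimTop.isLocalizedModule_germLin N hW hx
    obtain ⟨⟨m, c⟩, rfl⟩ := IsLocalizedModule.mk'_surjective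
      (hW.primeIdealOf ⟨x, hx⟩).asIdeal.primeCompl (LimTop.germLin N hx) z
    change tAt X W • IsLocalizedModule.mk' (LimTop.germLin N hx) m c = 0 at hz
    rw [← IsLocalizedModule.mk'_smul, IsLocalizedModule.mk'_eq_zero'] at hz
    obtain ⟨d, hd⟩ := hz
    refine (IsLocalizedModule.mk'_eq_zero' _ _).mpr ⟨d, hinj _ ?_⟩
    rw [smul_comm] at hd
    exact hd
  refine TopCat.Presheaf.section_ext (⟨N.presheaf, N.isSheaf⟩ : TopCat.Sheaf AddCommGrpCat.{u} _)
    _ _ _ fun x hx => ?_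
  rw [map_zero]
  refine hgerm x hx.2 _ hx.2 ?_
  have h0 : tAt X V • s = 0 := hs
  have h1 := congrArg (N.presheaf.germ V x hx.1) h0
  rw [map_zero] at h1
  erw [N.presheaf.germ_res_apply (homOfLE inf_le_left) x hx s]
  rw [show (𝔸((ULift.{u} (Fin 1)); X)).presheaf.germ W x hx.2 (tAt X W) = (𝔸((ULift.{u} (Fin 1)); X)).presheaf.germ V x hx.1 (tAt X V) by
    simp only [tAt]
    erw [(𝔸((ULift.{u} (Fin 1)); X)).presheaf.germ_res_apply, (𝔸((ULift.{u} (Fin 1)); X)).presheaf.germ_res_apply]]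
  rw [← h1]
  exact (PullStalk.Sky.germM_smul N V x hx.1 (tAt X V) s).symm

end Groth.Agent.KRR49.AffLineZero
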