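import Groth.Agent.RankLocus.Basic
import Groth.Agent.KFlat.LocFree
import Groth.Agent.PerfTri.Bounded
import Groth.Agent.PerfTri.Betti

/-!
Finite locally free modules on connected schemes have a rank.
-/

set_option autoImplicit false
set_option linter.style.haveILetI false

universe u

open CategoryTheory CategoryTheory.Limits AlgebraicGeometry TopologicalSpace Opposite

noncomputable section

namespace Groth.Agent.KRR49

open Groth.Agent.Props Groth.Agent.PullStalk.Sky

variable {X : Scheme.{u}}

theorem finrank_stalk_of_restrict_iso {N : X.Modules} [N.IsQuasicoherent] {V : X.Opens} {r : ℕ}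
    (e : N.restrict V.ι ≅ FlatMod.freeMod (V : Scheme.{u}) r) {t : X} (htV : t ∈ V) :
    Module.finrank (X.presheaf.stalk t) (N.presheaf.stalk t) = r := by
  obtain ⟨_, ⟨W, hW, rfl⟩, htW, hWV⟩ := X.isBasis_affineOpens.exists_subset_of_mem_open htV V.2
  obtain ⟨b⟩ := QProj.free_sections_of_restrict_iso N e hW hWV
  letI := QStalk.moduleSections N htW
  letI := X.presheaf.algebra_section_stalk ⟨t, htW⟩
  haveI : IsScalarTower Γ(X, W) (X.presheaf.stalk t) (N.presheaf.stalk t) :=
    IsScalarTower.of_algebraMap_smul fun _ _ ↦ rfl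
  haveI := QStalk.isLocalizedModule_germLin N htW hW
  haveI : IsLocalization.AtPrime (X.presheaf.stalk t) (hW.primeIdealOf ⟨t, htW⟩).asIdeal :=
    hW.isLocalization_stalk ⟨t, htW⟩
  exact (Module.finrank_eq_card_basis (b.ofIsLocalizedModule (X.presheaf.stalk t)
    (hW.primeIdealOf ⟨t, htW⟩).asIdeal.primeCompl (QStalk.germLin N htW))).trans (Fintype.card_fin r)

/-- A finite locally free module on a connected scheme has a rank. -/
theorem exists_ofRank [ConnectedSpace X] {M : X.Modules} (h : FlatMod.IsFinLocFree M) :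
    ∃ r : ℕ, FlatMod.IsFinLocFreeOfRank r M := by
  haveI := PerfTri.Betti.isQuasicoherent_of_isFinLocFree h
  let g : X → ℕ := fun t => Module.finrank (X.presheaf.stalk t) (M.presheaf.stalk t)
  have hg : IsLocallyConstant g := IsLocallyConstant.iff_exists_open _ |>.mpr fun x => by
    obtain ⟨U, r, hx, ⟨e⟩⟩ := h x
    exact ⟨U, U.2, hx, fun y hy =>
      (finrank_stalk_of_restrict_iso e hy).trans (finrank_stalk_of_restrict_iso e hx).symm⟩
  obtain ⟨x₀⟩ := (inferInstance : Nonempty X)
  refine ⟨g x₀, fun x => ?_⟩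
  obtain ⟨U, r, hx, ⟨e⟩⟩ := h x
  obtain rfl : r = g x₀ :=
    (finrank_stalk_of_restrict_iso e hx).symm.trans (hg.apply_eq_of_preconnectedSpace x x₀)
  exact ⟨U, hx, ⟨e⟩⟩

end Groth.Agent.KRR49
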