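import Groth.Agent.KRR49.TorAcyclic
import Groth.Agent.ResK0.Functorial
import Groth.Agent.ResK0.RegPush
import Groth.Agent.KosZig.Chart
import Groth.Agent.KRR49.ConnRank
import Groth.Agent.CycLib.P1Chart
import Groth.Agent.KRRLib.PullVb
import Groth.Agent.ZClosLib.CohDescent
import Groth.Agent.KFlat.StalkFlat
import Groth.Agent.S0611

/-!
# Vanishing of Tor for a cartesian square of regular closed immersions of the same codimension
-/

set_option autoImplicit false
set_option linter.style.haveILetI false
set_option maxHeartbeats 800000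

universe v w u

open CategoryTheory CategoryTheory.Limits AlgebraicGeometry TopologicalSpace Opposite RingTheory.Sequence
open Groth.Agent.PullStalk.Sky Groth.Agent.PullStalk.Exact Groth.Agent.PullStalk.Basic
open Groth.Agent.KRR49.TorAcyclic Groth.Agent.ResK0
open scoped TensorProduct

noncomputable section

namespace Groth.Agent.KRR49.BCSquare

variable {X Y P M : Scheme.{u}}

theorem exists_chart (i : X ⟶ Y) [IsClosedImmersion i] (hi : Mor2.IsRegularClosedImmersion i) {d : ℕ}
    (hc : FlatMod.IsFinLocFreeOfRank d (Omega.conormal i)) (x : X) :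
    ∃ c : KosZig.Chart i d, i x ∈ c.W.1 := by
  obtain ⟨U, hU, hxU, rs, hreg, hker⟩ := hi.2 x
  have c : KosZig.Chart i rs.length := ⟨⟨U, hU⟩, fun k => rs[k.1], by
    rw [← Scheme.Hom.ker_apply i ⟨U, hU⟩, hker, Ideal.ofList]
    congr 1
    ext a
    simp [List.mem_iff_get], by
    rw [List.ofFn_getElem]
    exact hreg.toIsWeaklyRegular⟩
  suffices hl : rs.length = d by
    subst hl
    exact ⟨⟨⟨U, hU⟩, fun k => rs[k.1], by
      rw [← Scheme.Hom.ker_apply i ⟨U, hU⟩, hker, Ideal.ofList]
      congr 1
      ext a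
      simp [List.mem_iff_get], by
      rw [List.ofFn_getElem]
      exact hreg.toIsWeaklyRegular⟩, hxU⟩
  let c' : KosZig.Chart i rs.length := ⟨⟨U, hU⟩, fun k => rs[k.1], by
    rw [← Scheme.Hom.ker_apply i ⟨U, hU⟩, hker, Ideal.ofList]
    congr 1
    ext a
    simp [List.mem_iff_get], by
    rw [List.ofFn_getElem]
    exact hreg.toIsWeaklyRegular⟩
  obtain ⟨b, -⟩ := c'.exists_basis i (y := x) hxU
  obtain ⟨V, hxV, ⟨e⟩⟩ := hc x
  have h1 := KRR49.finrank_stalk_of_restrict_iso e hxV
  rw [Module.finrank_eq_card_basis b, Fintype.card_fin] at h1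
  exact h1

theorem weaklyRegular_g {i : X ⟶ Y} [IsClosedImmersion i] {d : ℕ} (c : KosZig.Chart i d) {x : X}
    (hx : i x ∈ c.W.1) : IsWeaklyRegular (Y.presheaf.stalk (i x)) (List.ofFn (c.g i hx)) := by
  letI := Y.presheaf.algebra_section_stalk ⟨i x, hx⟩
  haveI := c.W.2.isLocalization_stalk ⟨i x, hx⟩
  have h := c.reg.of_isLocalization (Y.presheaf.stalk (i x))
    (c.W.2.primeIdealOf ⟨i x, hx⟩).asIdeal.primeCompl
  rw [List.map_ofFn] at h
  exact h

/-- The equations of a regular immersion at a point and acyclicity of its direct images. -/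
theorem exists_seq (F : P ⟶ M) [IsClosedImmersion F] (hF : Mor2.IsRegularClosedImmersion F) {d : ℕ}
    (hc : FlatMod.IsFinLocFreeOfRank d (Omega.conormal F)) {G : P.Modules} (hG : FlatMod.IsFinLocFree G)
    (p : M) (z : P) (h : F z = p) :
    ∃ rs : Fin d → M.presheaf.stalk p,
      Ideal.span (Set.range rs) = (RingHom.ker (F.stalkMap z).hom).comap
        (M.presheaf.stalkSpecializes (specializes_of_eq h)).hom ∧
      ∀ (B : Type u) [AddCommGroup B] [Module (M.presheaf.stalk p) B],
        IsWeaklyRegular B (List.ofFn rs) →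
          TA (M.presheaf.stalk p) B (((Scheme.Modules.pushforward F).obj G).presheaf.stalk p) := by
  subst h
  obtain ⟨c, hz⟩ := exists_chart F hF hc z
  let R := M.presheaf.stalk (F z)
  have hI := c.span_g F hz
  have hreg' := weaklyRegular_g c hz
  refine ⟨c.g F hz, ?_, fun B _ _ hB => ?_⟩
  · rw [hI, TopCat.Presheaf.stalkSpecializes_refl]
    rfl
  haveI := (PerfTri.Betti.isQuasicoherent_of_isFinLocFree hG)
  haveI := (Props.QProj.free_stalk G hG z).1
  haveI := (Props.QProj.free_stalk G hG z).2
  let b := Module.Free.chooseBasis (P.presheaf.stalk z) (G.presheaf.stalk z)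
  let ι := Module.Free.ChooseBasisIndex (P.presheaf.stalk z) (G.presheaf.stalk z)
  obtain ⟨e, he⟩ := RegPush.exists_stalk_equiv F G z
  let π : (ι → R) →ₗ[R] ((Scheme.Modules.pushforward F).obj G).presheaf.stalk (F z) :=
    { toFun := fun v => e.symm (∑ i, (F.stalkMap z).hom (v i) • b i)
      map_add' := fun v w => by
        rw [← map_add, ← Finset.sum_add_distrib]
        simp only [Pi.add_apply, map_add, add_smul]
      map_smul' := fun r v => by
        apply e.injective
        rw [RingHom.id_apply, he, e.apply_symm_apply, e.apply_symm_apply, Finset.smul_sum]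
        simp only [Pi.smul_apply, smul_eq_mul, map_mul, mul_smul] }
  have hπ : Function.Surjective π := fun t => by
    choose v hv using fun i => F.stalkMap_surjective z (b.repr (e t) i)
    refine ⟨v, e.injective ?_⟩
    show e (e.symm (∑ i, (F.stalkMap z).hom (v i) • b i)) = e t
    rw [e.apply_symm_apply]
    simp only [hv]
    exact b.sum_repr (e t)
  have hol : Ideal.ofList (List.ofFn (c.g F hz)) = RingHom.ker (F.stalkMap z).hom := by
    rw [← hI, Ideal.ofList]
    congr 1
    ext a
    simp
  have hkπ : LinearMap.ker π = (Ideal.ofList (List.ofFn (c.g F hz)) • ⊤ : Submodule R (ι → R)) := by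
    classical
    rw [hol]
    refine le_antisymm (fun v hv => ?_) (Submodule.smul_le.2 fun r hr v _ => ?_)
    · have h0 : ∑ i, (F.stalkMap z).hom (v i) • b i = 0 := by
        have := congrArg e (LinearMap.mem_ker.1 hv)
        rwa [map_zero, show π v = e.symm (∑ i, (F.stalkMap z).hom (v i) • b i) from rfl, e.apply_symm_apply] at this
      rw [pi_eq_sum_univ v]
      exact Submodule.sum_mem _ fun i _ => Submodule.smul_mem_smul
        (RingHom.mem_ker.2 (Fintype.linearIndependent_iff.1 b.linearIndependent _ h0 i)) trivial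
    · rw [RingHom.mem_ker] at hr
      rw [LinearMap.mem_ker, map_smul]
      apply e.injective
      rw [he, map_zero, hr, zero_smul]
  refine ta_congr ((Submodule.quotEquivOfEq _ _ hkπ).symm ≪≫ₗ π.quotKerEquivOfSurjective hπ)
    (ta_quot_regular _ _ (ta_of_flat _) ?_ (hB.isWeaklyRegular_lTensor (M₂ := ι → R)))
  exact ((TensorProduct.lid R (ι → R)).isWeaklyRegular_congr _).1 (hreg'.isWeaklyRegular_rTensor (M₂ := ι → R))

theorem stalk_TA (F : P ⟶ M) (φ : Y ⟶ M) (f : X ⟶ Y) (ψ : X ⟶ P) [IsClosedImmersion F] [IsClosedImmersion f]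
    [IsLocallyNoetherian Y] (hsq : IsPullback f ψ φ F) (hF : Mor2.IsRegularClosedImmersion F)
    (hf : Mor2.IsRegularClosedImmersion f) {d : ℕ} (hcF : FlatMod.IsFinLocFreeOfRank d (Omega.conormal F))
    (hcf : FlatMod.IsFinLocFreeOfRank d (Omega.conormal f)) {G : P.Modules} (hG : FlatMod.IsFinLocFree G)
    (y : Y) :
    letI := (φ.stalkMap y).hom.toAlgebra
    TA (M.presheaf.stalk (φ y)) (Y.presheaf.stalk y)
      (((Scheme.Modules.pushforward F).obj G).presheaf.stalk (φ y)) := by
  letI := (φ.stalkMap y).hom.toAlgebra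
  by_cases hy : y ∈ Set.range f
  swap
  · have hn : φ y ∉ Set.range F := fun ⟨q, hq⟩ => by
      obtain ⟨x, hx, -⟩ := Scheme.exists_preimage_of_isPullback hsq y q hq.symm
      exact hy ⟨x, hx⟩
    haveI := ClUnit.subsingleton_stalk_pushforward F G (φ y)
      ⟨(Set.range F)ᶜ, F.isClosedEmbedding.isClosed_range.isOpen_compl⟩ hn
      (le_bot_iff.mp fun z hz => hz ⟨z, rfl⟩)
    haveI : Module.Free (M.presheaf.stalk (φ y)) (((Scheme.Modules.pushforward F).obj G).presheaf.stalk (φ y)) :=
      Module.Free.of_subsingleton _ _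
    exact ta_of_flat _
  obtain ⟨x, rfl⟩ := hy
  have hp : F (ψ x) = φ (f x) := by
    rw [← Scheme.Hom.comp_apply, ← hsq.w, Scheme.Hom.comp_apply]
  obtain ⟨rs, hrs, hTA⟩ := exists_seq F hF hcF hG (φ (f x)) (ψ x) hp
  refine hTA _ ?_
  let B := Y.presheaf.stalk (f x)
  let σ := algebraMap (M.presheaf.stalk (φ (f x))) B
  obtain ⟨c, hx⟩ := exists_chart f hf hcf x
  have hker : Ideal.span (Set.range (c.g f hx)) = Ideal.span (Set.range (σ ∘ rs)) := by
    rw [c.span_g f hx, CycLib.ker_stalkMap_isPullback hsq x (specializes_of_eq hp), ← hrs, Ideal.map_span,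
      ← Set.range_comp]
    rfl
  have hmem : Ideal.ofList (List.ofFn (c.g f hx)) = RingHom.ker (f.stalkMap x).hom := by
    rw [← c.span_g f hx, Ideal.ofList]
    congr 1
    ext a
    simp
  have hregB : IsRegular B (List.ofFn (c.g f hx)) := by
    refine ⟨weaklyRegular_g c hx, ?_⟩
    rw [hmem, smul_eq_mul, Ideal.mul_top]
    exact (RingHom.ker_ne_top _).symm
  have h1 := (Groth.Agent.S0611.result (c.g f hx) (σ ∘ rs) hregB hker).toIsWeaklyRegular
  rw [← List.map_ofFn] at h1
  exact (isWeaklyRegular_map_algebraMap_iff B B _).1 h1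

/-- Pull-back preserves a short exact sequence whose quotient is acyclic. -/
theorem shortExact_pullback (φ : Y ⟶ M) {S : ShortComplex M.Modules} (hS : S.ShortExact)
    (hTA : ∀ y : Y, letI := (φ.stalkMap y).hom.toAlgebra
      TA (M.presheaf.stalk (φ y)) (Y.presheaf.stalk y) (S.X₃.presheaf.stalk (φ y)))
    [(Scheme.Modules.pullback φ).Additive] :
    (S.map (Scheme.Modules.pullback φ)).ShortExact := by
  haveI : (Scheme.Modules.pullback φ).IsLeftAdjoint :=
    (Scheme.Modules.pullbackPushforwardAdjunction φ).isLeftAdjoint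
  haveI : PreservesFiniteColimits (Scheme.Modules.pullback φ) := inferInstance
  haveI := hS.epi_g
  have hmono : Mono ((Scheme.Modules.pullback φ).map S.f) := KFlat.StalkTensor.mono_of_stalk_injective _ fun y => by
    letI := (φ.stalkMap y).hom.toAlgebra
    letI := moduleOver φ S.X₁ y
    letI := moduleOver φ S.X₂ y
    haveI : IsScalarTower (M.presheaf.stalk (φ y)) (Y.presheaf.stalk y)
        (((Scheme.Modules.pullback φ).obj S.X₁).presheaf.stalk y) := IsScalarTower.of_algebraMap_smul fun _ _ => rfl
    haveI : IsScalarTower (M.presheaf.stalk (φ y)) (Y.presheaf.stalk y)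
        (((Scheme.Modules.pullback φ).obj S.X₂).presheaf.stalk y) := IsScalarTower.of_algebraMap_smul fun _ _ => rfl
    obtain ⟨hi, he, hs⟩ := PullStalk.Exact.stalk_exact hS (φ y)
    have hinj := tensor_injective (B := Y.presheaf.stalk y) hi hs he (hTA y)
    have h₁ := isBaseChange_unitStalk φ S.X₁ y
    have h₂ := isBaseChange_unitStalk φ S.X₂ y
    have hl : Function.Injective ((stalkLin S.f (φ y)).lTensor (Y.presheaf.stalk y)) := by
      intro a b hab
      apply (TensorProduct.comm _ _ _).injective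
      apply hinj
      have key : ∀ w, (stalkLin S.f (φ y)).rTensor (Y.presheaf.stalk y) (TensorProduct.comm _ _ _ w) =
          TensorProduct.comm _ _ _ ((stalkLin S.f (φ y)).lTensor (Y.presheaf.stalk y) w) := fun w => by
        induction w using TensorProduct.induction_on with
        | zero => simp
        | tmul r t => rfl
        | add a b ha hb => simp only [map_add, ha, hb]
      rw [key, key, hab]
    have hcomm : ∀ w, stalkLin ((Scheme.Modules.pullback φ).map S.f) y (h₁.equiv w) =
        h₂.equiv ((stalkLin S.f (φ y)).lTensor (Y.presheaf.stalk y) w) := fun w => by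
      induction w using TensorProduct.induction_on with
      | zero => simp
      | tmul r t =>
        rw [LinearMap.lTensor_tmul, IsBaseChange.equiv_tmul, IsBaseChange.equiv_tmul, map_smul]
        exact congrArg _ (KRRLib.stalkLin_unitStalkHom φ S.f y t)
      | add a b ha hb => rw [map_add, map_add, map_add, map_add, ha, hb]
    intro a b hab
    obtain ⟨a, rfl⟩ := h₁.equiv.surjective a
    obtain ⟨b, rfl⟩ := h₁.equiv.surjective b
    refine congrArg _ (hl (h₂.equiv.injective ?_))
    rw [← hcomm, ← hcomm]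
    exact hab
  haveI : Epi (S.map (Scheme.Modules.pullback φ)).g := inferInstanceAs (Epi ((Scheme.Modules.pullback φ).map S.g))
  exact
    { exact := ShortComplex.exact_of_g_is_cokernel _ (CokernelCofork.mapIsColimit _ hS.gIsCokernel _)
      mono_f := hmono }

variable [AlgebraicGeometry.IsNoetherian Y] [AlgebraicGeometry.IsNoetherian M]

/-- Pull-back commutes with the values of acyclic modules with bounded syzygies. -/
theorem pull_val (φ : Y ⟶ M) (hYe : KRR.HasEnoughLocFree Y) (hMe : KRR.HasEnoughLocFree M)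
    {KM : Type v} [CommRing KM] {KY : Type w} [CommRing KY] {φM : SGA6.Kvb M →+ KM} {φY : SGA6.Kvb Y →+ KY}
    {gφ : KM →+ KY} (hgφ : KRR.IsPull φ φM φY gφ) :
    ∀ (n : ℕ) (N : M.Modules), Coh.IsCoh N → Basic.SyzP (KRR.vbP M) n N →
      (∀ y : Y, letI := (φ.stalkMap y).hom.toAlgebra
        TA (M.presheaf.stalk (φ y)) (Y.presheaf.stalk y) (N.presheaf.stalk (φ y))) →
      Basic.SyzP (KRR.vbP Y) n ((Scheme.Modules.pullback φ).obj N) ∧
        gφ (φM (Basic.val (KRR.vbP M) n N)) =
          φY (Basic.val (KRR.vbP Y) n ((Scheme.Modules.pullback φ).obj N)) := by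
  intro n
  induction n with
  | zero => exact fun N _ hn _ => ⟨KFlat.LocFree.isFinLocFree_pull φ hn, hgφ N hn⟩
  | succ n ih =>
    intro N hN hn hTA
    have H := PdSyz.hyp hMe
    have H' := PdSyz.hyp hYe
    obtain ⟨L, p, hp, hL⟩ := H.exists_cover N hN
    have hK := H.kernel₁ p (H.le _ hL) hN
    haveI : (Scheme.Modules.pullback φ).IsLeftAdjoint :=
      (Scheme.Modules.pullbackPushforwardAdjunction φ).isLeftAdjoint
    haveI : (Scheme.Modules.pullback φ).Additive := Functor.additive_of_preserves_binary_products _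
    obtain ⟨hs, he⟩ := ih _ hK (hn L p hp hL) fun y => by
      letI := (φ.stalkMap y).hom.toAlgebra
      obtain ⟨hi, hex, hsur⟩ := PullStalk.Exact.stalk_exact (Basic.shortExact_kernel p) (φ y)
      haveI := (PerfTri.Betti.isQuasicoherent_of_isFinLocFree hL)
      haveI := (Props.QProj.free_stalk L hL (φ y)).1
      exact ta_left hi hsur hex (ta_of_flat _) (hTA y)
    haveI : Epi ((Scheme.Modules.pullback φ).map p) := inferInstance
    have hS := shortExact_pullback φ (Basic.shortExact_kernel p) hTA
    let e : (Scheme.Modules.pullback φ).obj (kernel p) ≅ kernel ((Scheme.Modules.pullback φ).map p) :=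
      hS.fIsKernel.conePointUniqueUpToIso (limit.isLimit _)
    have hs' := H'.syzP_iso n e hs
    have hTN : Coh.IsCoh ((Scheme.Modules.pullback φ).obj N) := ZClosLib.CohDescent.isCoh_pullback φ N hN
    have hTL : KRR.vbP Y ((Scheme.Modules.pullback φ).obj L) := KFlat.LocFree.isFinLocFree_pull φ hL
    have hSn : Basic.SyzP (KRR.vbP Y) (n + 1) ((Scheme.Modules.pullback φ).obj N) :=
      Syz.syzP_succ_of_cover H' n hTN ((Scheme.Modules.pullback φ).map p) hTL hs'
    refine ⟨hSn, ?_⟩
    rw [H.val_succ (H.inv n) hN hn p hL, H'.val_succ (H'.inv n) hTN hSn ((Scheme.Modules.pullback φ).map p) hTL,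
      map_sub, map_sub, map_sub, he, H'.val_iso (H'.inv n) e (ZClosLib.CohDescent.isCoh_pullback φ _ hK) hs]
    exact congrArg₂ (· - ·) (hgφ L hL) rfl

end Groth.Agent.KRR49.BCSquare
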