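import Groth.Agent.KRR49.Gen
import Groth.Agent.ResK0.PushCl
import Groth.Agent.ResK0.PullLam
import Groth.Agent.CohAff.RcComp
import Groth.Agent.S3747
import Groth.Agent.S0036

/-!
# The push-forward on bundles agrees with the push-forward on coherent modules
-/

set_option autoImplicit false
set_option linter.style.haveILetI false

open CategoryTheory CategoryTheory.Limits AlgebraicGeometry
open LambdaRing
open scoped ZeroObject

universe u v

noncomputable section

namespace Groth.Agent.KRR49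

abbrev cohP (X : Scheme.{u}) : ObjectProperty X.Modules := fun M => Coh.IsCoh M

theorem mapSubCoh_cl {X : Scheme.{u}} (h : ∀ M : X.Modules, FlatMod.IsFinLocFree M → Coh.IsCoh M)
    {E : X.Modules} (hE : FlatMod.IsFinLocFree E) :
    SGA6.mapSub (𝟭 X.Modules) (KRR.vbP X) (cohP X) h (KRR.cl X E) = KZero.clSub (cohP X) E := by
  simp only [KRR.cl, KZero.clSub, dif_pos hE, dif_pos (h E hE), SGA6.mapSub, QuotientAddGroup.map_mk,
    FreeAbelianGroup.map_of_apply, SGA6.objMap]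
  rfl

theorem clCoh_iso {X : Scheme.{u}} [IsLocallyNoetherian X] {A B : X.Modules} (e : A ≅ B)
    (hA : Coh.IsCoh A) : KZero.clSub (cohP X) A = KZero.clSub (cohP X) B :=
  by
  have h0 : ∀ Z : X.Modules, IsZero Z → Coh.IsCoh Z := fun Z hZ =>
    VBLib.isCoh_of_isFinLocFree (S3205.flf_of_isZero hZ)
  have hS : (ShortComplex.mk e.hom (0 : B ⟶ 0) comp_zero).ShortExact :=
    { exact := by
        rw [ShortComplex.exact_iff_epi _ rfl]
        exact inferInstanceAs (Epi e.hom)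
      mono_f := inferInstanceAs (Mono e.hom)
      epi_g := ⟨fun _ _ _ => (isZero_zero _).eq_of_src _ _⟩ }
  rw [ResK0.Basic.clSub_add (cohP X) hS hA (CohDev.isCoh_of_iso e hA) (h0 _ (isZero_zero _)),
    S3205.clSub_eq_zero (P := cohP X) (h0 _ (isZero_zero _)) (isZero_zero _), add_zero]

variable {n : ℕ} {Y : Scheme.{u}} [IsNoetherian Y]

theorem isCoh_twF (d : ℤ) {F : (KRR.PY n Y).Modules} (h : Coh.IsCoh F) : Coh.IsCoh (KRR.twF n Y d F) := by
  haveI : IsProper (KRR.pr n Y) := TwistFlat.isProper_toBase n Y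
  haveI : IsLocallyNoetherian (KRR.PY n Y) := LocallyOfFiniteType.isLocallyNoetherian (KRR.pr n Y)
  have ht : Coh.IsCoh (Twist.twistOver n Y d) := VBLib.isCoh_of_isFinLocFree (isFinLocFree_twistOver d)
  haveI := h.1
  haveI := h.2
  haveI := ht.1
  haveI := ht.2
  exact ⟨LimTop.TensorQC.isQuasicoherent_tensM (Twist.twistOver n Y d) F,
    LimTop.TensorQC.isFT_tensM (Twist.twistOver n Y d) F⟩

theorem isCoh_pushPr {F : (KRR.PY n Y).Modules} (h : Coh.IsCoh F) :
    Coh.IsCoh ((Scheme.Modules.pushforward (KRR.pr n Y)).obj F) := by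
  haveI : IsProper (KRR.pr n Y) := TwistFlat.isProper_toBase n Y
  exact CohDev.isCoh_of_iso ((Scheme.Modules.pushforward (KRR.pr n Y)).rightDerivedZeroIsoSelf.app F)
    (S0036.result (KRR.pr n Y) F h 0)

variable {KP : Type v} [CommRing KP] [LambdaOps KP] {PP : PosStructure KP}
  {φP : SGA6.Kvb (KRR.PY n Y) →+ KP} (hKP : KRR.IsModel (KRR.PY n Y) KP PP φP)
  (ψ : KP →+ SGA6.Kcoh Y) (hPe : KRR.HasEnoughLocFree (KRR.PY n Y))
  (hψ : ∀ F : (KRR.PY n Y).Modules, FlatMod.IsFinLocFree F → KRR.IsRegSheaf n Y F →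
    ψ (φP (KRR.cl (KRR.PY n Y) F)) = KZero.clSub (cohP Y) ((Scheme.Modules.pushforward (KRR.pr n Y)).obj F))

include hKP hPe hψ

theorem push_val_coh [IsNoetherian (KRR.PY n Y)] : ∀ (c : ℕ) (M : (KRR.PY n Y).Modules), Coh.IsCoh M →
    ResK0.Basic.SyzP (KRR.vbP (KRR.PY n Y)) c M →
    ∃ N : ℕ, ∀ m : ℕ, N ≤ m →
      ψ (φP (ResK0.Basic.val (KRR.vbP (KRR.PY n Y)) c M) *
          φP (KRR.cl (KRR.PY n Y) (Twist.twistOver n Y (m : ℤ)))) =
        KZero.clSub (cohP Y) ((Scheme.Modules.pushforward (KRR.pr n Y)).obj (KRR.twF n Y (m : ℤ) M)) := by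
  have H := ResK0.PdSyz.hyp hPe
  intro c
  induction c with
  | zero =>
    intro M hM hs
    obtain ⟨N, hN⟩ := exists_isRegSheaf_twF M hM
    refine ⟨N, fun m hm => ?_⟩
    rw [H.val_of_prop₀ 0 hs, mul_comm]
    erw [hKP.map_mul _ _ (isFinLocFree_twistOver _) hs]
    exact hψ _ (isFinLocFree_twF hs _) (hN m hm)
  | succ c ih =>
    intro M hM hs
    obtain ⟨L, p, hp, hL⟩ := H.exists_cover M hM
    have hLc := H.le _ hL
    have hKc : Coh.IsCoh (kernel p) := H.kernel₁ p hLc hM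
    obtain ⟨N₁, hN₁⟩ := exists_isRegSheaf_twF L hLc
    obtain ⟨N₂, hN₂⟩ := exists_isRegSheaf_twF _ hKc
    have hS := ResK0.Basic.shortExact_kernel p
    have hpush : ∀ m : ℕ, N₂ ≤ m →
        (((ShortComplex.mk _ p (kernel.condition p)).map (KRRLib.twFun n Y (m : ℤ))).map
          (Scheme.Modules.pushforward (KRR.pr n Y))).ShortExact := fun m hm =>
      shortExact_push_of_reg (KRRLib.shortExact_tw hS _) (KRRReg49.isQCoh_twF hKc.1 _) (hN₂ m hm)
    obtain ⟨N₃, hN₃⟩ := ih (kernel p) hKc (hs L p hp hL)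
    refine ⟨N₁ + N₂ + N₃, fun m hm => ?_⟩
    rw [H.val_succ (H.inv c) hM hs p hL, map_sub, sub_mul, map_sub, hN₃ m (by omega), mul_comm]
    erw [hKP.map_mul _ _ (isFinLocFree_twistOver _) hL]
    erw [hψ _ (isFinLocFree_twF hL (m : ℤ)) (hN₁ m (by omega))]
    exact sub_eq_of_eq_add' (ResK0.Basic.clSub_add (cohP Y) (hpush m (by omega))
      (isCoh_pushPr (isCoh_twF _ hKc)) (isCoh_pushPr (isCoh_twF _ hLc)) (isCoh_pushPr (isCoh_twF _ hM)))

end Groth.Agent.KRR49
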