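import Groth.Agent.KRR49.CohCompat

/-!
# `δ_Y ∘ (p_K ∘ i_K) = g ∘ δ_X`
-/

set_option autoImplicit false
set_option linter.style.haveILetI false

open CategoryTheory CategoryTheory.Limits AlgebraicGeometry
open LambdaRing

universe u v

noncomputable section

namespace Groth.Agent.KRR49

theorem push_coh_compat {n : ℕ} {X Y : Scheme.{u}} [IsNoetherian X] [ConnectedSpace ↥X] [IsNoetherian Y]
    [IsNoetherian (KRR.PY n Y)] [ConnectedSpace ↥(KRR.PY n Y)]
    (hPe : KRR.HasEnoughLocFree (KRR.PY n Y)) [HasInjectiveResolutions X.Modules]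
    (i : X ⟶ KRR.PY n Y) (hi : Mor2.IsRegularClosedImmersion i)
    (hX : ∀ M : X.Modules, FlatMod.IsFinLocFree M → Coh.IsCoh M) (hY : ∀ M : Y.Modules, FlatMod.IsFinLocFree M → Coh.IsCoh M)
    (KX : Type v) [CommRing KX] [LambdaOps KX] (PX : PosStructure KX) (φX : SGA6.Kvb X →+ KX) (hKX : KRR.IsModel X KX PX φX)
    (KP : Type v) [CommRing KP] [LambdaOps KP] (PP : PosStructure KP) (φP : SGA6.Kvb (KRR.PY n Y) →+ KP) (hKP : KRR.IsModel (KRR.PY n Y) KP PP φP)
    (KY : Type v) [CommRing KY] [LambdaOps KY] (PY : PosStructure KY) (φY : SGA6.Kvb Y →+ KY) (hKY : KRR.IsModel Y KY PY φY)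
    (a : KX →+ KP) (ha : KRR.IsPushCl i φX φP a) (b : KP →+ KY) (hb : KRR.IsPushPr n Y φP φY b)
    (N : ℕ) (g : SGA6.Kcoh X →+ SGA6.Kcoh Y) (hg : KRR.IsPushCoh (i ≫ KRR.pr n Y) N g)
    (x : SGA6.Kvb X) (y : SGA6.Kvb Y) (hxy : φY y = b (a (φX x))) :
    SGA6.mapSub (𝟭 Y.Modules) (KRR.vbP Y) (cohP Y) hY y =
      g (SGA6.mapSub (𝟭 X.Modules) (KRR.vbP X) (cohP X) hX x) := by
  haveI := hi.1
  haveI : IsProper (KRR.pr n Y) := TwistFlat.isProper_toBase n Y
  obtain ⟨σ, hσ, -⟩ := KRRLib.existsUnique_isPull (KX := KX) (KY := KP) i φX φP hKP.bijective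
  let eY := AddEquiv.ofBijective φY hKY.bijective
  let eX := AddEquiv.ofBijective φX hKX.bijective
  let δY := SGA6.mapSub (𝟭 Y.Modules) (KRR.vbP Y) (cohP Y) hY
  let ψ : KP →+ SGA6.Kcoh Y := (δY.comp eY.symm.toAddMonoidHom).comp b
  have hψ : ∀ F : (KRR.PY n Y).Modules, FlatMod.IsFinLocFree F → KRR.IsRegSheaf n Y F →
      ψ (φP (KRR.cl (KRR.PY n Y) F)) = KZero.clSub (cohP Y) ((Scheme.Modules.pushforward (KRR.pr n Y)).obj F) :=
    fun F hF hreg => by
      show δY (eY.symm (b _)) = _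
      rw [hb F hF hreg, show φY _ = eY _ from rfl, AddEquiv.symm_apply_apply]
      exact mapSubCoh_cl hY (S3756.result n Y F hF hreg)
  let G1 : SGA6.Kvb X →+ SGA6.Kcoh Y := g.comp (SGA6.mapSub (𝟭 X.Modules) (KRR.vbP X) (cohP X) hX)
  let G2 : SGA6.Kvb X →+ SGA6.Kcoh Y := (ψ.comp a).comp φX
  suffices h : G1 = G2 by
    have h1 : G1 x = G2 x := DFunLike.congr_fun h x
    have h2 : G2 x = δY y := by
      show δY (eY.symm (b (a (φX x)))) = δY y
      rw [← hxy, show φY y = eY y from rfl, AddEquiv.symm_apply_apply]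
    exact (h1.trans h2).symm
  refine ResK0.Functorial.hom_ext fun E hE => ?_
  obtain ⟨hMc, c, hc⟩ := ResK0.RegPush.exists_syzP i hPe hi hE
  obtain ⟨L, π, hL⟩ := ResK0.PushCl.exists_res hPe c _ hMc hc
  have hval : a (φX (KRR.cl X E)) = φP (ResK0.Basic.val (KRR.vbP (KRR.PY n Y)) c
      ((Scheme.Modules.pushforward i).obj E)) := by
    rw [ha E hE c L π hL, ← ResK0.PushCl.sum_eq_val hPe c _ hMc L π hL, map_sum]
    simp only [map_zsmul]
  obtain ⟨N₁, hN₁⟩ := push_val_coh hKP ψ hPe hψ c _ hMc hc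
  obtain ⟨N₂, hN₂⟩ := exists_isRegSheaf_twF _ hMc
  let G : ℤ → X.Modules := fun d => CohB1.tensorMod E ((Scheme.Modules.pullback i).obj (Twist.twistOver n Y d))
  have hA : ∀ d : ℤ, FlatMod.IsFinLocFree ((Scheme.Modules.pullback i).obj (Twist.twistOver n Y d)) :=
    fun d => KFlat.LocFree.isFinLocFree_pull i (isFinLocFree_twistOver d)
  have hG : ∀ d, FlatMod.IsFinLocFree (G d) := fun d => isFinLocFree_tensorMod hE (hA d)
  let T : SGA6.Kvb (KRR.PY n Y) →+ SGA6.Kvb X :=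
    eX.symm.toAddMonoidHom.comp ((AddMonoidHom.mulLeft (φX (KRR.cl X E))).comp (σ.comp φP))
  have hT : ∀ d, T (KRR.cl (KRR.PY n Y) (Twist.twistOver n Y d)) = KRR.cl X (G d) := fun d => by
    show eX.symm (φX (KRR.cl X E) * σ (φP _)) = _
    rw [hσ _ (isFinLocFree_twistOver d), hKX.map_mul _ _ hE (hA d)]
    exact AddEquiv.symm_apply_apply eX _
  let eM : ∀ d : ℤ, KRR.twF n Y d ((Scheme.Modules.pushforward i).obj E) ≅ (Scheme.Modules.pushforward i).obj (G d) :=
    fun d => ProjTwist.tensComm _ _ ≪≫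
      @asIso _ _ _ _ _ (ProjForm.isIso_θ_of_isFinLocFree i E (isFinLocFree_twistOver (n := n) (Y := Y) d))
  have key : ∀ (t : ℕ) (d : ℤ), ((N₁ + N₂ : ℕ) : ℤ) ≤ d + t →
      G1 (T (KRR.cl (KRR.PY n Y) (Twist.twistOver n Y d))) = G2 (T (KRR.cl (KRR.PY n Y) (Twist.twistOver n Y d))) := by
    intro t
    induction t with
    | zero =>
      intro d hd
      obtain ⟨m, rfl⟩ : ∃ m : ℕ, d = (m : ℤ) := ⟨d.toNat, by omega⟩
      have h2 : G2 (T (KRR.cl (KRR.PY n Y) (Twist.twistOver n Y (m : ℤ)))) =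
          KZero.clSub (cohP Y) ((Scheme.Modules.pushforward (KRR.pr n Y)).obj
            (KRR.twF n Y (m : ℤ) ((Scheme.Modules.pushforward i).obj E))) := by
        show ψ (a (φX (eX.symm (φX (KRR.cl X E) * σ (φP _))))) = _
        rw [show φX (eX.symm _) = _ from eX.apply_symm_apply _,
          S3747.result i hi hPe KX PX φX hKX KP PP φP hKP σ hσ a ha, hval]
        exact hN₁ m (by omega)
      rw [h2, hT]
      show g (SGA6.mapSub _ _ _ hX (KRR.cl X (G (m : ℤ)))) = _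
      rw [mapSubCoh_cl hX (hG _), hg.2 _ (hX _ (hG _))]
      haveI : (G (m : ℤ)).IsQuasicoherent := (hX _ (hG _)).1
      rw [Finset.sum_eq_single 0]
      · rw [pow_zero, one_smul]
        exact clCoh_iso ((Scheme.Modules.pushforward (i ≫ KRR.pr n Y)).rightDerivedZeroIsoSelf.app _ ≪≫
          ((Scheme.Modules.pushforwardComp i (KRR.pr n Y)).app _).symm ≪≫
          (Scheme.Modules.pushforward (KRR.pr n Y)).mapIso (eM (m : ℤ)).symm) (S0036.result _ _ (hX _ (hG _)) 0)
      · intro q _ hq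
        obtain ⟨q, rfl⟩ := Nat.exists_eq_succ_of_ne_zero hq
        have hab : IsZero ((Coh.RpushAb (KRR.pr n Y) (q + 1)).obj
            (Coh.toAb ((Scheme.Modules.pushforward i).obj (G (m : ℤ))))) :=
          KRRLib.isZero_congr ((KRRLib.twFunZero (n := n) (T := Y)).app _ ≪≫ eM (m : ℤ)) (q + 1)
            (KRRReg49.isZero_twF_of_isRegSheaf (KRRReg49.isQCoh_twF hMc.1 _) (hN₂ m (by omega)) (q + 1)
              (by omega) 0 (by omega))
        haveI : (ModShf.toAbFunctor Y).Faithful := inferInstanceAs (SheafOfModules.toSheaf Y.ringCatSheaf).Faithful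
        have hmod : IsZero ((Coh.Rpush (KRR.pr n Y) (q + 1)).obj ((Scheme.Modules.pushforward i).obj (G (m : ℤ)))) := by
          have h' := hab.of_iso ((ModShf.rpushCompToAb (KRR.pr n Y) (q + 1)).app
            ((Scheme.Modules.pushforward i).obj (G (m : ℤ))))
          exact (IsZero.iff_id_eq_zero _).2 ((ModShf.toAbFunctor Y).map_injective (h'.eq_of_src _ _))
        have hf := hmod.of_iso (CohAff.rpushAffineFirst i (KRR.pr n Y) (G (m : ℤ)) (q + 1)).symm
        rw [S3205.clSub_eq_zero (P := cohP Y) (S0036.result _ _ (hX _ (hG _)) _) hf, smul_zero]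
      · intro h; simp at h
    | succ t ih =>
      intro d hd
      rw [relation_twistOver d, map_R, map_R, map_R]
      exact R_congr n fun j hj => ih _ (by omega)
  have h0 := key (N₁ + N₂) 0 (by omega)
  have hO : T (KRR.cl (KRR.PY n Y) (Twist.twistOver n Y 0)) = KRR.cl X E := by
    show eX.symm (φX (KRR.cl X E) * σ (φP _)) = _
    rw [show φP (KRR.cl (KRR.PY n Y) (Twist.twistOver n Y 0)) = 1 by
      rw [← hKP.map_one]
      exact congrArg φP (S3205.clSub_congr KRRLib.twistZero.hom (isFinLocFree_one (LFFrame.isInvertible_structureModule _))),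
      ResK0.PullLam.map_one hKX hKP hσ, mul_one]
    exact AddEquiv.symm_apply_apply eX _
  rwa [hO] at h0

end Groth.Agent.KRR49
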