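import Groth.Prelude.Def_KRR
import Groth.Agent.S18573
import Groth.Agent.ProperFin.PnBase
import Groth.Agent.Chow.Strata

/-!
# `P^n_Y` is connected over a connected base
-/

set_option autoImplicit false
set_option backward.isDefEq.respectTransparency.types false

universe u

open CategoryTheory CategoryTheory.Limits AlgebraicGeometry

namespace Groth.Agent.KRR49

variable {n : ℕ} {S : Scheme.{u}}

theorem isPullback_projSpaceMap {S' : Scheme.{u}} (g : S' ⟶ S) :
    IsPullback (KRR.projSpaceMap n g) (KRR.pr n S') (KRR.pr n S) g := by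
  refine IsPullback.of_right ?_ (pullback.lift_snd _ _ _)
    (IsPullback.of_hasPullback (CohB1.ProjSpace.toSpec n (ULift.{u} ℤ)) (specULiftZIsTerminal.from S))
  rw [show g ≫ specULiftZIsTerminal.from S = specULiftZIsTerminal.from S' from
    specULiftZIsTerminal.hom_ext _ _]
  convert! IsPullback.of_hasPullback (CohB1.ProjSpace.toSpec n (ULift.{u} ℤ))
    (specULiftZIsTerminal.from S') using 1
  exact (pullback.lift_fst _ _ _).trans (Category.comp_id _)

theorem preconnectedSpace_field_PY (K : Type u) [Field K] :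
    PreconnectedSpace (KRR.PY n (Spec (CommRingCat.of K))) := by
  obtain ⟨e, -⟩ := Groth.Agent.ProperFin.exists_iso_projSpaceOver n K
  have := Groth.Agent.S18573.irreducibleSpace_projSpace n K
  refine ⟨?_⟩
  have h := (isPreconnected_univ (α := CohB1.ProjSpace n K)).image e.inv.base e.inv.continuous.continuousOn
  rwa [Set.image_univ, e.inv.surjective.range_eq] at h

theorem preconnectedSpace_PY [PreconnectedSpace ↥S] : PreconnectedSpace ↥(KRR.PY n S) := by
  obtain ⟨σ, hσ, -⟩ := Groth.Agent.Chow.exists_section_coord n S (0 : Fin (n + 1))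
  have hmem : ∀ {Z : Set (KRR.PY n S)}, IsClopen Z → ∀ p, p ∈ Z ↔ σ (KRR.pr n S p) ∈ Z := by
    intro Z hZ p
    let s := KRR.pr n S p
    let g := S.fromSpecResidueField s
    obtain ⟨z⟩ : Nonempty (Spec (S.residueField s)) := inferInstanceAs (Nonempty (PrimeSpectrum _))
    have hz : g z = s := Scheme.fromSpecResidueField_apply s z
    have key : ∀ q, KRR.pr n S q = s → ∃ q', KRR.projSpaceMap n g q' = q := fun q hq => by
      obtain ⟨w, hw, -⟩ := Scheme.Pullback.exists_preimage_pullback (f := KRR.pr n S)
        (g := g) q z (hq.trans hz.symm)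
      exact ⟨(isPullback_projSpaceMap g).isoPullback.inv w, by
        rw [← Scheme.Hom.comp_apply, IsPullback.isoPullback_inv_fst, hw]⟩
    obtain ⟨q, hq⟩ := key p rfl
    obtain ⟨q', hq'⟩ := key (σ s) (by rw [← Scheme.Hom.comp_apply, hσ]; rfl)
    haveI := preconnectedSpace_field_PY (n := n) (S.residueField s)
    rcases isClopen_iff.1 (hZ.preimage (KRR.projSpaceMap n g).continuous) with h | h
    · refine iff_of_false (fun hp => ?_) (fun hp => ?_)
      · exact Set.eq_empty_iff_forall_notMem.1 h q (Set.mem_preimage.2 (hq.symm ▸ hp))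
      · exact Set.eq_empty_iff_forall_notMem.1 h q' (Set.mem_preimage.2 (hq'.symm ▸ hp))
    · have a : KRR.projSpaceMap n g q ∈ Z := Set.eq_univ_iff_forall.1 h q
      have b : KRR.projSpaceMap n g q' ∈ Z := Set.eq_univ_iff_forall.1 h q'
      rw [hq] at a
      rw [hq'] at b
      exact iff_of_true a b
  refine preconnectedSpace_iff_clopen.2 fun Z hZ => ?_
  rcases isClopen_iff.1 (hZ.preimage σ.continuous) with h | h
  · exact Or.inl (Set.eq_empty_of_forall_notMem fun p hp =>
      Set.eq_empty_iff_forall_notMem.1 h _ ((hmem hZ p).1 hp))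
  · exact Or.inr (Set.eq_univ_of_forall fun p =>
      (hmem hZ p).2 (Set.eq_univ_iff_forall.1 h (KRR.pr n S p)))

theorem connectedSpace_PY [ConnectedSpace ↥S] : ConnectedSpace ↥(KRR.PY n S) := by
  haveI := preconnectedSpace_PY (n := n) (S := S)
  obtain ⟨σ, -, -⟩ := Groth.Agent.Chow.exists_section_coord n S (0 : Fin (n + 1))
  obtain ⟨s⟩ : Nonempty S := inferInstance
  exact { toNonempty := ⟨σ s⟩ }

end Groth.Agent.KRR49
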