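import Groth.Prelude.Def_KRR
import Groth.Agent.KFlat.LocFree
import Groth.Agent.ProperFin.FiniteMap

/-!
# Enough locally free modules on closed subschemes
-/

set_option autoImplicit false

universe u

open CategoryTheory CategoryTheory.Limits AlgebraicGeometry TopologicalSpace

noncomputable section

namespace Groth.Agent.KRR49

theorem enough_of_closedImmersion {Z X : Scheme.{u}} [IsLocallyNoetherian X] (j : Z ⟶ X) [IsClosedImmersion j]
    (hX : KRR.HasEnoughLocFree X) : KRR.HasEnoughLocFree Z := fun G hG => by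
  have : IsLocallyNoetherian Z := LocallyOfFiniteType.isLocallyNoetherian j
  obtain ⟨E, π, hE, hπ⟩ := hX _ (ProperFin.isCoh_push_of_isFinite j G hG)
  let adj := Scheme.Modules.pullbackPushforwardAdjunction j
  let q := (adj.homEquiv E G).symm π
  refine ⟨(Scheme.Modules.pullback j).obj E, q, KFlat.LocFree.isFinLocFree_pull j hE, ⟨fun {Q} a b h => ?_⟩⟩
  have h1 : π ≫ (Scheme.Modules.pushforward j).map a = π ≫ (Scheme.Modules.pushforward j).map b := by
    have h2 := congrArg (adj.homEquiv E Q) h
    rwa [adj.homEquiv_naturality_right, adj.homEquiv_naturality_right, Equiv.apply_symm_apply] at h2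
  rw [cancel_epi] at h1
  refine Scheme.Modules.hom_ext _ _ fun V => ?_
  obtain ⟨U, hU, hUV⟩ := j.isEmbedding.isInducing.isOpen_iff.mp V.2
  obtain rfl : j ⁻¹ᵁ ⟨U, hU⟩ = V := Opens.ext hUV
  exact congr($(h1).app ⟨U, hU⟩)

end Groth.Agent.KRR49
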