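import Groth.Agent.KRRReg49.Vanish
import Groth.Agent.AmpCrit.RelVan
import Groth.Agent.TwistFlat.Main

/-!
# Large twists of coherent modules on `P^n_Y` are regular
-/

set_option autoImplicit false
set_option linter.style.haveILetI false

open CategoryTheory CategoryTheory.Limits AlgebraicGeometry TopologicalSpace Opposite

universe u

noncomputable section

namespace Groth.Agent.KRR49

open Groth.Agent.ProjTwist Groth.Agent.ProjTwist.Pn

variable {n : ℕ} {Y : Scheme.{u}}

/-- Vanishing of `R^i p_*` from vanishing on charts over an affine cover. -/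
theorem isZero_RpushAb_of_cover_charts (M : (KRR.PY n Y).Modules) [M.IsQuasicoherent] {ι : Type*}
    (W : ι → Y.Opens) (hW : ∀ k, IsAffineOpen (W k)) (hcov : ∀ y : Y, ∃ k, y ∈ W k) (i : ℕ)
    (h : ∀ k, letI := TwistFlat.isOpenImmersion_chart n (hW k)
      Subsingleton (Coh.HH (CohB1.ProjSpace n Γ(Y, W k)) (M.restrict (TwistFlat.chart n (hW k))) (i + 1))) :
    IsZero ((Coh.RpushAb (KRR.pr n Y) (i + 1)).obj (Coh.toAb M)) := by
  haveI := TwistFlat.isProper_toBase n Y
  have hz := AmpCrit.RelVan.isZero_rpush_of_cover (KRR.pr n Y) M W hW hcov (n := i) fun k => by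
    letI := TwistFlat.isOpenImmersion_chart n (hW k)
    have := GrModLib.subsingleton_HU_of_chart (TwistFlat.chart n (hW k)) M (i + 1) (h k)
    rw [GrModLib.opensRange_chart n (hW k)] at this
    exact (CohTop.Restrict.HUEquivRestr (Coh.toAb M) (KRR.pr n Y ⁻¹ᵁ W k) (i + 1)).toEquiv.subsingleton_congr.mp this
  exact ((ModShf.toAbFunctor Y).map_isZero hz).of_iso ((ModShf.rpushCompToAb (KRR.pr n Y) (i + 1)).app M).symm

/-- Large twists of a coherent module are regular. -/
theorem exists_isRegSheaf_twF [IsNoetherian Y] (F : (KRR.PY n Y).Modules) (hF : Coh.IsCoh F) :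
    ∃ k : ℕ, ∀ j, k ≤ j → KRR.IsRegSheaf n Y (KRR.twF n Y ((j : ℕ) : ℤ) F) := by
  classical
  choose W hW hsW using fun s : Y =>
    (exists_isAffineOpen_mem_and_subset (X := Y) (x := s) (U := ⊤) trivial)
  obtain ⟨T, hT⟩ := isCompact_univ.elim_finite_subcover (fun s : Y => (W s : Set Y))
    (fun s => (W s).2) fun s _ => Set.mem_iUnion.mpr ⟨s, (hsW s).1⟩
  have key : ∀ s : T, ∃ d₀ : ℕ, letI := TwistFlat.isOpenImmersion_chart n (hW s)
      ∀ d : ℤ, (d₀ : ℤ) ≤ d → ∀ p : ℕ, 0 < p →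
        Subsingleton (Coh.HH (CohB1.ProjSpace n Γ(Y, W s))
          (twF (F.restrict (TwistFlat.chart n (hW s))) d) p) := fun s => by
    haveI : IsNoetherianRing Γ(Y, W s) := IsLocallyNoetherian.component_noetherian ⟨W s, hW s⟩
    letI := TwistFlat.isOpenImmersion_chart n (hW s)
    obtain ⟨d₀, hd⟩ := serre_vanishing _ (TwistFlat.isCoh_restrict n (hW s) F hF)
    exact ⟨d₀.toNat, fun d h => hd d ((Int.self_le_toNat d₀).trans h)⟩
  choose d₀ hd₀ using key
  obtain ⟨N, hN⟩ : ∃ N, ∀ s, d₀ s ≤ N := Finite.exists_le d₀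
  refine ⟨N + n, fun j hj i hi => ?_⟩
  refine KRRLib.isZero_congr (KRRLib.twTw F (j : ℤ) (-(i : ℤ)) ((j : ℤ) - i) (by ring)).symm i ?_
  obtain ⟨m, rfl⟩ := Nat.exists_eq_add_of_le' hi
  haveI : (KRR.twF n Y ((j : ℤ) - ((m + 1 : ℕ) : ℤ)) F).IsQuasicoherent := KRRReg49.isQCoh_twF hF.1 _
  refine isZero_RpushAb_of_cover_charts _ (fun s : T => W s) (fun s => hW _) (fun y => ?_) m fun s => ?_
  · obtain ⟨t, ht, hyt⟩ := Set.mem_iUnion₂.mp (hT (Set.mem_univ y))
    exact ⟨⟨t, ht⟩, hyt⟩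
  · letI := TwistFlat.isOpenImmersion_chart n (hW s)
    obtain ⟨e⟩ := KRRReg49.nonempty_restrict_twF (hW s) F ((j : ℤ) - ((m + 1 : ℕ) : ℤ))
    have : Subsingleton (Coh.HH (CohB1.ProjSpace n Γ(Y, W s))
        (twF (F.restrict (TwistFlat.chart n (hW s))) ((j : ℤ) - ((m + 1 : ℕ) : ℤ))) (m + 1)) := by
      by_cases hm : m + 1 ≤ n
      · exact hd₀ s _ (by have := hN s; omega) _ m.succ_pos
      · haveI := hF.1
        exact Pn.subsingleton_above _ (Pn.isQCoh_tw _
          (Scheme.Modules.isQuasicoherent_restrictFunctor _ F) _) _ (by omega)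
    exact (CohLin.hIso e (m + 1)).injective.subsingleton

end Groth.Agent.KRR49
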