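import Groth.Agent.Lambda.Gamma

/-!
# Series with coefficients in a multiplicative filtration
-/

set_option autoImplicit false

universe u

open PowerSeries Finset LambdaRing

noncomputable section

namespace Groth.Agent.KRR49

open Groth.Agent.Lambda

variable {K : Type u} [CommRing K]

/-- A multiplicative filtration by additive subgroups. -/
structure Fam (J : ℕ → AddSubgroup K) : Prop where
  one : (1 : K) ∈ J 0
  anti : ∀ {m n : ℕ}, m ≤ n → J n ≤ J m
  mul : ∀ {m n : ℕ} {a b : K}, a ∈ J m → b ∈ J n → a * b ∈ J (m + n)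

variable {J : ℕ → AddSubgroup K}

/-- The series with `m`-th coefficient in `J m`. -/
def Fam.series (hJ : Fam J) : Subring (PowerSeries K) where
  carrier := {f | ∀ m, coeff m f ∈ J m}
  mul_mem' {f g} hf hg m := by
    rw [PowerSeries.coeff_mul]
    refine sum_mem fun p hp => ?_
    rw [← Finset.mem_antidiagonal.1 hp]
    exact hJ.mul (hf _) (hg _)
  one_mem' m := by
    rw [PowerSeries.coeff_one]
    split_ifs with h
    · exact h ▸ hJ.one
    · exact zero_mem _
  add_mem' {f g} hf hg m := by rw [map_add]; exact add_mem (hf m) (hg m)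
  zero_mem' m := by rw [map_zero]; exact zero_mem _
  neg_mem' {f} hf m := by rw [map_neg]; exact neg_mem (hf m)

theorem Fam.inv1_mem (hJ : Fam J) {f : PowerSeries K} (hc : CC f) (hf : f ∈ hJ.series) :
    inv1 f ∈ hJ.series := by
  intro m
  induction m using Nat.strong_induction_on with
  | _ m ih =>
    rcases Nat.eq_zero_or_pos m with rfl | hm
    · rw [(cc_inv1 f).coeff_zero]
      exact hJ.one
    · have h := congrArg (coeff m) (mul_inv1 hc)
      rw [PowerSeries.coeff_mul, PowerSeries.coeff_one, if_neg hm.ne',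
        ← Finset.insert_erase (show ((0, m) : ℕ × ℕ) ∈ Finset.antidiagonal m by simp),
        Finset.sum_insert (Finset.notMem_erase _ _), hc.coeff_zero, one_mul] at h
      rw [eq_neg_of_add_eq_zero_left h]
      refine neg_mem (sum_mem fun p hp => ?_)
      obtain ⟨hne, hp⟩ := Finset.mem_erase.1 hp
      have hpm := Finset.mem_antidiagonal.1 hp
      have hlt : p.2 < m := by
        rcases Nat.eq_zero_or_pos p.1 with h0 | h0
        · exact absurd (Prod.ext h0 (by omega)) hne
        · omega
      rw [← hpm]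
      exact hJ.mul (hf _) (ih _ hlt)

theorem Fam.C_mul_X_pow_mem (hJ : Fam J) {a : K} {m : ℕ} (ha : a ∈ J m) :
    C a * X ^ m ∈ hJ.series := fun i => by
  rw [PowerSeries.coeff_C_mul_X_pow]
  split_ifs with h
  · exact h.symm ▸ ha
  · exact zero_mem _

/-- The coefficient of `A^a S^(r-a)` in `Σ c i A^i (S - A)^(r-i)`. -/
def reCoeff (c : ℕ → K) (r a : ℕ) : K :=
  ∑ i ∈ range (a + 1), c i * ((-1) ^ (a - i) * ((r - i).choose (a - i) : K))

theorem expand_sub {R : Type*} [CommRing R] (φ : K →+* R) (c : ℕ → K) (r : ℕ) (A S : R) :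
    ∑ i ∈ range (r + 1), φ (c i) * A ^ i * (S - A) ^ (r - i) =
      ∑ a ∈ range (r + 1), φ (reCoeff c r a) * A ^ a * S ^ (r - a) := by
  have h1 : ∀ i ∈ range (r + 1), φ (c i) * A ^ i * (S - A) ^ (r - i) =
      ∑ a ∈ Ico i (r + 1), φ (c i * ((-1) ^ (a - i) * ((r - i).choose (a - i) : K))) * A ^ a * S ^ (r - a) := by
    intro i hi
    have hir := Finset.mem_range_succ_iff.1 hi
    rw [Finset.sum_Ico_eq_sum_range, show r + 1 - i = r - i + 1 by omega, sub_eq_add_neg, add_comm S,
      add_pow, Finset.mul_sum]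
    refine Finset.sum_congr rfl fun j hj => ?_
    rw [show i + j - i = j by omega, show r - (i + j) = r - i - j by omega, pow_add A i j,
      map_mul, map_mul, map_pow, map_neg, map_one, map_natCast, neg_pow A j]
    ring
  rw [Finset.sum_congr rfl h1]
  simp only [reCoeff, map_sum, Finset.sum_mul]
  exact Finset.sum_comm' (by
    intro i a
    simp only [Finset.mem_range, Finset.mem_Ico]
    omega)

variable [LambdaOps K]

theorem gammaSeries_neg_natCast (h1 : ∀ i, 2 ≤ i → LambdaOps.lam i (1 : K) = 0) :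
    ∀ r : ℕ, gammaSeries (-(r : K)) = (1 - X : PowerSeries K) ^ r
  | 0 => by rw [Nat.cast_zero, neg_zero, gammaSeries_zero, pow_zero]
  | r + 1 => by
    rw [show -((r + 1 : ℕ) : K) = -(r : K) + (0 - 1) by push_cast; ring, gammaSeries_add,
      gammaSeries_neg_natCast h1 r, pow_succ,
      gammaSeries_sub_one h1 (u := 0) (fun i hi => by
        rw [← coeff_lamSeries, lamSeries_zero, PowerSeries.coeff_one, if_neg (by omega)])]
    congr 1
    simp [lin, sub_eq_add_neg]

/-- `γ_t(x - r)` for `x` with `λ^i x = 0` above `r`. -/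
theorem gammaSeries_sub_rank (h1 : ∀ i, 2 ≤ i → LambdaOps.lam i (1 : K) = 0) {x : K} {r : ℕ}
    (hx : ∀ i, r < i → LambdaOps.lam i x = 0) :
    gammaSeries (x - (r : K)) =
      ∑ i ∈ range (r + 1), C (LambdaOps.lam i x) * X ^ i * (1 - X : PowerSeries K) ^ (r - i) := by
  have hl : lamSeries x = ∑ i ∈ range (r + 1), C (LambdaOps.lam i x) * X ^ i := by
    ext m
    rw [map_sum, coeff_lamSeries]
    simp only [PowerSeries.coeff_C_mul_X_pow]
    rw [Finset.sum_ite_eq]
    split_ifs with h
    · rfl
    · exact hx m (by simpa using h)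
  have hg : (geom : PowerSeries K) * (1 - X) = X := by
    rw [geom, mul_assoc, PowerSeries.mk_one_mul_one_sub_eq_one, mul_one]
  rw [sub_eq_add_neg, gammaSeries_add, gammaSeries_neg_natCast h1, gammaSeries_eq, hl, gsub,
    ← PowerSeries.coe_substAlgHom hasSubst_geom, map_sum, Finset.sum_mul]
  refine Finset.sum_congr rfl fun i hi => ?_
  have hir := Finset.mem_range_succ_iff.1 hi
  rw [map_mul, map_pow, PowerSeries.coe_substAlgHom, PowerSeries.subst_C, PowerSeries.subst_X hasSubst_geom]
  calc C (LambdaOps.lam i x) * geom ^ i * (1 - X : PowerSeries K) ^ r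
      = C (LambdaOps.lam i x) * (geom * (1 - X)) ^ i * (1 - X : PowerSeries K) ^ (r - i) := by
        rw [mul_pow, mul_assoc, mul_assoc (C _) _ ((1 - X : PowerSeries K) ^ (r - i)), mul_assoc,
          ← pow_add, Nat.add_sub_cancel' hir]
    _ = _ := by rw [hg]

/-- If `γ_t(e - r)` has coefficients in `J` then so has `γ_t(e ℓ - r)` for a line `ℓ` congruent to `1`. -/
theorem gammaSeries_mem_mul_line (hJ : Fam J) (h1 : ∀ i, 2 ≤ i → LambdaOps.lam i (1 : K) = 0)
    {e l : K} {r : ℕ} (he : ∀ i, r < i → LambdaOps.lam i e = 0)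
    (hel : ∀ i, LambdaOps.lam i (e * l) = LambdaOps.lam i e * l ^ i)
    (hl : l ∈ J 0) (hl1 : 1 - l ∈ J 1) (hgood : gammaSeries (e - (r : K)) ∈ hJ.series) :
    gammaSeries (e * l - (r : K)) ∈ hJ.series := by
  have hG := gammaSeries_sub_rank h1 he
  rw [show (1 - X : PowerSeries K) = 1 - X from rfl, expand_sub PowerSeries.C (fun i => LambdaOps.lam i e) r X 1] at hG
  have hc : ∀ a ∈ range (r + 1), reCoeff (fun i => LambdaOps.lam i e) r a ∈ J a := fun a ha => by
    have h := hgood a
    rw [hG, map_sum, Finset.sum_eq_single a] at h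
    · simpa [PowerSeries.coeff_C_mul_X_pow] using h
    · intro b _ hb
      simp [PowerSeries.coeff_C_mul_X_pow, Ne.symm hb]
    · exact fun h' => absurd ha h'
  have hsum : gammaSeries (e * l - (r : K)) =
      ∑ a ∈ range (r + 1), C (reCoeff (fun i => LambdaOps.lam i e) r a) * (C l * X) ^ a *
        (1 - C (1 - l) * X) ^ (r - a) := by
    rw [gammaSeries_sub_rank h1 fun i hi => by rw [hel, he i hi, zero_mul],
      ← expand_sub PowerSeries.C (fun i => LambdaOps.lam i e) r (C l * X) (1 - C (1 - l) * X)]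
    refine Finset.sum_congr rfl fun i _ => ?_
    rw [hel, map_mul, map_pow, show (1 - C (1 - l) * X : PowerSeries K) - C l * X = 1 - X by
      rw [map_sub, map_one]; ring]
    ring
  rw [hsum]
  refine sum_mem fun a ha => mul_mem ?_ (pow_mem (sub_mem (one_mem _) ?_) _)
  · rw [mul_pow, mul_left_comm, mul_comm]
    exact mul_mem (hJ.C_mul_X_pow_mem (hc a ha)) (pow_mem (by simpa using hJ.C_mul_X_pow_mem (m := 0) hl) a)
  · simpa using hJ.C_mul_X_pow_mem (m := 1) hl1

end Groth.Agent.KRR49
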