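import Groth.Agent.KRR49.Gen
import Groth.Agent.KRR49.GammaFam
import Groth.Agent.KRR49.ConnRank
import Groth.Agent.ResK0.PullLam
import Groth.Agent.S15827
import Groth.Agent.S3762
import Groth.Agent.Lambda.Splitting

/-!
# The γ-filtration of `K(P^n_Y)`
-/

set_option autoImplicit false
set_option linter.style.haveILetI false

open CategoryTheory CategoryTheory.Limits AlgebraicGeometry
open LambdaRing

universe u v

noncomputable section

namespace Groth.Agent.KRR49

section Fil

variable {K : Type v} [CommRing K] [LambdaOps K] (P : PosStructure K)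

theorem fil_anti {m k : ℕ} (h : m ≤ k) : gammaFiltration P k ≤ gammaFiltration P m := by
  rcases Nat.eq_zero_or_pos m with rfl | hm
  · simp [gammaFiltration]
  rw [gammaFiltration, gammaFiltration, if_neg hm.ne', if_neg (by omega)]
  refine AddSubgroup.closure_mono ?_
  rintro y ⟨l, hl, hs, rfl⟩
  exact ⟨l, hl, h.trans hs, rfl⟩

theorem gamma_mem_fil {x : K} (hx : P.aug x = 0) (k : ℕ) : gamma k x ∈ gammaFiltration P k := by
  rcases Nat.eq_zero_or_pos k with rfl | hk
  · simp [gammaFiltration]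
  rw [gammaFiltration, if_neg hk.ne']
  exact AddSubgroup.subset_closure ⟨[(k, x)], by simpa using hx, by simp, by simp⟩

theorem fil_mul {m k : ℕ} {a b : K} (ha : a ∈ gammaFiltration P m) (hb : b ∈ gammaFiltration P k) :
    a * b ∈ gammaFiltration P (m + k) := by
  have hleft : ∀ (k : ℕ) (a b : K), b ∈ gammaFiltration P k → a * b ∈ gammaFiltration P k := by
    intro k a b hb
    rcases Nat.eq_zero_or_pos k with rfl | hk
    · simp [gammaFiltration]
    rw [gammaFiltration, if_neg hk.ne'] at hb ⊢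
    induction hb using AddSubgroup.closure_induction with
    | mem y hy =>
      obtain ⟨l, hl, hs, rfl⟩ := hy
      have h1 : P.aug (a - (P.aug a : K)) = 0 := by rw [map_sub, map_intCast, Int.cast_id, sub_self]
      rw [show a * (l.map fun p => gamma p.1 p.2).prod = (a - (P.aug a : K)) * (l.map fun p => gamma p.1 p.2).prod +
        P.aug a • (l.map fun p => gamma p.1 p.2).prod by rw [zsmul_eq_mul]; ring]
      refine AddSubgroup.add_mem _ ?_ (AddSubgroup.zsmul_mem _ ?_ _)
      swap
      · exact AddSubgroup.subset_closure ⟨l, hl, hs, rfl⟩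
      refine AddSubgroup.subset_closure ⟨(1, a - (P.aug a : K)) :: l, ?_, ?_, ?_⟩
      · intro p hp
        rcases List.mem_cons.1 hp with rfl | hp
        · exact h1
        · exact hl p hp
      · simp only [List.map_cons, List.sum_cons]; omega
      · simp [Lambda.gamma_one_op]
    | zero => simp
    | add x y _ _ hx hy => rw [mul_add]; exact add_mem hx hy
    | neg x _ hx => rw [mul_neg]; exact neg_mem hx
  rcases Nat.eq_zero_or_pos m with rfl | hm
  · rw [zero_add]; exact hleft k a b hb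
  rcases Nat.eq_zero_or_pos k with rfl | hk
  · rw [add_zero, mul_comm]; exact hleft m b a ha
  rw [gammaFiltration, if_neg hm.ne'] at ha
  rw [gammaFiltration, if_neg hk.ne'] at hb
  rw [gammaFiltration, if_neg (by omega)]
  induction ha using AddSubgroup.closure_induction with
  | mem y hy =>
    obtain ⟨l, hl, hs, rfl⟩ := hy
    induction hb using AddSubgroup.closure_induction with
    | mem z hz =>
      obtain ⟨l', hl', hs', rfl⟩ := hz
      refine AddSubgroup.subset_closure ⟨l ++ l', ?_, ?_, ?_⟩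
      · intro p hp
        rcases List.mem_append.1 hp with hp | hp
        · exact hl p hp
        · exact hl' p hp
      · rw [List.map_append, List.sum_append]; omega
      · rw [List.map_append, List.prod_append]
    | zero => simp
    | add x y _ _ hx hy => rw [mul_add]; exact add_mem hx hy
    | neg x _ hx => rw [mul_neg]; exact neg_mem hx
  | zero => simp
  | add x y _ _ hx hy => rw [add_mul]; exact add_mem hx hy
  | neg x _ hx => rw [neg_mul]; exact neg_mem hx

end Fil

section Line

variable {X : Scheme.{u}} {K : Type v} [CommRing K] [LambdaOps K] {P : PosStructure K}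
  {φ : SGA6.Kvb X →+ K} (hK : KRR.IsModel X K P φ)

include hK

theorem cl_tensorPow {L : X.Modules} (hL : FlatMod.IsFinLocFree L) : ∀ i : ℕ,
    FlatMod.IsFinLocFree (CohB1.tensorPow L i) ∧
      φ (KRR.cl X (CohB1.tensorPow L i)) = φ (KRR.cl X L) ^ i
  | 0 => ⟨isFinLocFree_one (LFFrame.isInvertible_structureModule X), by rw [pow_zero]; exact hK.map_one⟩
  | i + 1 => by
    obtain ⟨h1, h2⟩ := cl_tensorPow hL i
    refine ⟨isFinLocFree_tensorMod h1 hL, ?_⟩
    rw [pow_succ, ← h2, hK.map_mul _ _ h1 hL]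
    rfl

/-- `λ^i (e ℓ) = λ^i(e) ℓ^i` for the class `ℓ` of a line bundle. -/
theorem lam_mul_line {E L : X.Modules} {r : ℕ} (hE : FlatMod.IsFinLocFreeOfRank r E)
    (hL : FlatMod.IsFinLocFreeOfRank 1 L) (i : ℕ) :
    LambdaOps.lam i (φ (KRR.cl X E) * φ (KRR.cl X L)) =
      LambdaOps.lam i (φ (KRR.cl X E)) * φ (KRR.cl X L) ^ i := by
  have hE' := VBLib.isFinLocFree_of_ofRank hE
  have hL' := VBLib.isFinLocFree_of_ofRank hL
  have hEL : FlatMod.IsFinLocFree (CohB1.tensorMod E L) := isFinLocFree_tensorMod hE' hL'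
  haveI := (VBLib.isCoh_of_isFinLocFree hE').1
  haveI := (VBLib.isCoh_of_isFinLocFree hEL).1
  obtain ⟨N, hN⟩ := ExtPowSt.Exists.exists_isExtPow i E
  obtain ⟨M, hM⟩ := ExtPowSt.Exists.exists_isExtPow i (CohB1.tensorMod E L)
  have hN' := ResK0.ExtVb.isFinLocFree_of_isExtPow hE hN
  obtain ⟨hP, hPc⟩ := cl_tensorPow hK hL' i
  obtain ⟨e⟩ := S15827.result E L hE' hL i M N hM hN
  have hNP : FlatMod.IsFinLocFree (CohB1.tensorMod N (CohB1.tensorPow L i)) := isFinLocFree_tensorMod hN' hP
  have hMf : FlatMod.IsFinLocFree M := KFlat.LocFree.isFinLocFree_of_iso e.symm hNP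
  rw [hK.map_mul E L hE' hL', hK.map_lam i E N hE' hN' hN, ← hPc, hK.map_mul N _ hN' hP]
  refine (hK.map_lam i (CohB1.tensorMod E L) M hEL hMf hM).trans ?_
  exact congrArg φ (S3205.clSub_congr e.hom hNP)

end Line

/-- `p_K (F^k) ⊆ F^(k-n)`. -/
theorem push_gammaFiltration (n : ℕ) {Y : Scheme.{u}} [IsNoetherian Y] [ConnectedSpace ↥Y]
    (KP : Type v) [CommRing KP] [LambdaOps KP] (PP : PosStructure KP)
    (φP : SGA6.Kvb (KRR.PY n Y) →+ KP) (hKP : KRR.IsModel (KRR.PY n Y) KP PP φP)
    (KY : Type v) [CommRing KY] [LambdaOps KY] (PY : PosStructure KY)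
    (φY : SGA6.Kvb Y →+ KY) (hKY : KRR.IsModel Y KY PY φY)
    (g : KP →+ KY) (hg : KRR.IsPushPr n Y φP φY g) (k : ℕ) (x : KP)
    (hx : x ∈ gammaFiltration PP k) : g x ∈ gammaFiltration PY (k - n) := by
  classical
  obtain ⟨q, hq, -⟩ := KRRLib.existsUnique_isPull (KX := KP) (KY := KY) (KRR.pr n Y) φP φY hKY.bijective
  let l₁ : KP := φP (KRR.cl (KRR.PY n Y) (Twist.twistOver n Y (-1)))
  let t : KP := 1 - l₁
  have hline : ∀ m : ℕ, φP (KRR.cl (KRR.PY n Y) (Twist.twistOver n Y (-(m : ℤ)))) = l₁ ^ m := by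
    intro m
    induction m with
    | zero =>
      rw [pow_zero, ← hKP.map_one]
      exact congrArg φP (S3205.clSub_congr
        (eqToIso (by simp) ≪≫ KRRLib.twistZero : Twist.twistOver n Y (-((0 : ℕ) : ℤ)) ≅ _).hom
        (isFinLocFree_one (LFFrame.isInvertible_structureModule _)))
    | succ m ih =>
      rw [pow_succ, ← ih, hKP.map_mul _ _ (isFinLocFree_twistOver _) (isFinLocFree_twistOver _)]
      exact congrArg φP (S3205.clSub_congr
        (KRRLib.twistAdd (-(m : ℤ)) (-1) (-((m + 1 : ℕ) : ℤ)) (by push_cast; ring)).inv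
        (isFinLocFree_tensorMod (isFinLocFree_twistOver _) (isFinLocFree_twistOver _)))
  -- the filtration `J`
  let J : ℕ → AddSubgroup KP := fun m => AddSubgroup.closure
    {z | ∃ (i : ℕ) (y : KY), y ∈ gammaFiltration PY (m - i) ∧ z = q y * t ^ i}
  have hJgen : ∀ m i y, y ∈ gammaFiltration PY (m - i) → q y * t ^ i ∈ J m := fun m i y hy =>
    AddSubgroup.subset_closure ⟨i, y, hy, rfl⟩
  have hq1 := ResK0.PullLam.map_one hKP hKY hq
  have hqm := ResK0.PullLam.map_mul hKP hKY hq
  have htop : ∀ y : KY, y ∈ gammaFiltration PY 0 := fun y => by simp [gammaFiltration]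
  have hfam : Fam J := by
    refine ⟨?_, fun {a b} hab => ?_, fun {a b z w} hz hw => ?_⟩
    · have := hJgen 0 0 1 (htop 1)
      rwa [hq1, pow_zero, one_mul] at this
    · refine (AddSubgroup.closure_le _).2 ?_
      rintro _ ⟨i, y, hy, rfl⟩
      exact hJgen a i y (fil_anti PY (by omega) hy)
    · refine (AddSubgroup.closure_le ((J (a + b)).comap (AddMonoidHom.mulRight w))).2 ?_ hz
      rintro _ ⟨i, y, hy, rfl⟩
      show q y * t ^ i * w ∈ J (a + b)
      refine (AddSubgroup.closure_le ((J (a + b)).comap (AddMonoidHom.mulLeft (q y * t ^ i)))).2 ?_ hw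
      rintro _ ⟨j, y', hy', rfl⟩
      show q y * t ^ i * (q y' * t ^ j) ∈ J (a + b)
      rw [mul_mul_mul_comm, ← hqm, ← pow_add]
      exact hJgen _ _ _ (fil_anti PY (by omega) (fil_mul PY hy hy'))
  have hJle : ∀ (m : ℕ) (S : AddSubgroup KP),
      (∀ i y, y ∈ gammaFiltration PY (m - i) → q y * t ^ i ∈ S) → J m ≤ S := fun m S hS => by
    refine (AddSubgroup.closure_le _).2 ?_
    rintro _ ⟨i, y, hy, rfl⟩
    exact hS i y hy
  have ht_eq : t = 1 - l₁ := rfl
  have hl₁aug : PP.aug l₁ = 1 :=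
    hKP.aug_cl 1 _ (ProjTwist.isFinLocFreeOfRank_one (KRRLib.isInvertible_twistOver (-1)))
  clear_value J t l₁
  have hl₁ : l₁ ∈ J 0 := by
    have h := sub_mem (hJgen 0 0 1 (htop 1)) (hJgen 0 1 1 (htop 1))
    rwa [hq1, pow_zero, pow_one, one_mul, one_mul, ht_eq, sub_sub_cancel] at h
  have hpow0 : ∀ m : ℕ, l₁ ^ m ∈ J 0 := fun m => by
    induction m with
    | zero => rw [pow_zero]; exact hfam.one
    | succ m ih => rw [pow_succ]; simpa only [Nat.add_zero] using hfam.mul ih hl₁
  have hpow1 : ∀ m : ℕ, 1 - l₁ ^ m ∈ J 1 := fun m => by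
    rw [← geom_sum_mul_neg l₁ m]
    have ht : t ∈ J 1 := by
      have := hJgen 1 1 1 (htop 1)
      rwa [hq1, pow_one, one_mul] at this
    rw [← ht_eq]
    exact hfam.mul (m := 0) (n := 1) (sum_mem fun i _ => hpow0 i) ht
  have h1 := Lambda.pos_lam_one PP
  -- elements whose centred γ-series has coefficients in `J`
  let T : AddSubgroup KP :=
    { carrier := {z | Lambda.gammaSeries (z - (PP.aug z : KP)) ∈ hfam.series}
      zero_mem' := by
        show _ ∈ hfam.series
        rw [map_zero, Int.cast_zero, sub_zero, Lambda.gammaSeries_zero]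
        exact one_mem _
      add_mem' := fun {a b} ha hb => by
        show _ ∈ hfam.series
        rw [map_add, Int.cast_add, add_sub_add_comm, Lambda.gammaSeries_add]
        exact mul_mem ha hb
      neg_mem' := fun {a} ha => by
        show _ ∈ hfam.series
        rw [map_neg, Int.cast_neg, ← neg_add', ← sub_eq_add_neg, Lambda.gammaSeries_neg]
        exact hfam.inv1_mem (Lambda.cc_gammaSeries _) ha }
  have hgen : (QuotientAddGroup.mk' T).comp φP = 0 := by
    refine hom_ext_pull fun E hE m hm => ?_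
    show (QuotientAddGroup.mk' T) (φP _) = 0
    refine (QuotientAddGroup.eq_zero_iff _).2 ?_
    obtain ⟨r, hr⟩ := exists_ofRank hE
    have hP := KFlat.LocFree.isFinLocFree_pull (KRR.pr n Y) hE
    have hPr := ResK0.PullLam.ofRank_pull (KRR.pr n Y) hr
    have hL := ProjTwist.isFinLocFreeOfRank_one (KRRLib.isInvertible_twistOver (n := n) (T := Y) (-(m : ℤ)))
    let e := φY (KRR.cl Y E)
    have hqe : q e = φP (KRR.cl (KRR.PY n Y) ((Scheme.Modules.pullback (KRR.pr n Y)).obj E)) := hq E hE
    have hz : φP (KRR.cl (KRR.PY n Y) (KRR.twF n Y (-(m : ℤ)) ((Scheme.Modules.pullback (KRR.pr n Y)).obj E))) =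
        q e * l₁ ^ m := by
      rw [hqe, ← hline m, mul_comm, hKP.map_mul _ _ (isFinLocFree_twistOver _) hP]
      rfl
    have haug : PP.aug (q e * l₁ ^ m) = r := by
      rw [map_mul, map_pow, hl₁aug, one_pow, mul_one, hqe, hKP.aug_cl r _ hPr]
    show Lambda.gammaSeries (_ - _) ∈ hfam.series
    rw [hz, haug, Int.cast_natCast]
    refine gammaSeries_mem_mul_line hfam h1 (fun i hi => ?_) (fun i => ?_) (hpow0 m) (hpow1 m) fun a => ?_
    · rcases Nat.eq_zero_or_pos r with rfl | hr0
      · have hz0 : φP (KRR.cl (KRR.PY n Y) ((Scheme.Modules.pullback (KRR.pr n Y)).obj E)) = 0 := by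
          rw [ResK0.Rank.cl_eq_zero_of_isZero (ResK0.Rank.isZero_of_rank_zero hPr) hP, map_zero]
        rw [hqe, hz0, ← Lambda.coeff_lamSeries, Lambda.lamSeries_zero, PowerSeries.coeff_one, if_neg (by omega)]
      · refine PP.lam_eq_zero _ ((hKP.mem_pos_iff _).2 ⟨r, _, hr0, hPr, hqe.symm⟩) i ?_
        rw [hqe, hKP.aug_cl r _ hPr]
        exact_mod_cast hi
    · rw [hqe, ← hline m, lam_mul_line hKP hPr hL i]
    · rw [Lambda.coeff_gammaSeries]
      have hqr : q e - (r : KP) = q (e - (r : KY)) := by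
        rw [map_sub]
        refine congrArg (q e - ·) ?_
        let G : KY →+* KP := { q with map_one' := hq1, map_mul' := hqm }
        exact (map_natCast G r).symm
      rw [hqr, ← ResK0.PullLam.map_gamma hKP hKY hq]
      have := hJgen a 0 _ (gamma_mem_fil PY (x := e - (r : KY)) (by
        rw [map_sub, hKY.aug_cl r E hr, map_natCast, sub_self]) (a - 0))
      rwa [pow_zero, mul_one, Nat.sub_zero] at this
  have hgamma : ∀ z : KP, PP.aug z = 0 → ∀ i, gamma i z ∈ J i := fun z hz i => by
    obtain ⟨w, rfl⟩ := hKP.bijective.2 z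
    have h : φP w ∈ T := (QuotientAddGroup.eq_zero_iff _).1 (DFunLike.congr_fun hgen w)
    have h' : Lambda.gammaSeries (φP w - (PP.aug (φP w) : KP)) ∈ hfam.series := h
    rw [hz, Int.cast_zero, sub_zero] at h'
    have := h' i
    rwa [Lambda.coeff_gammaSeries] at this
  have hrel : t ^ (n + 1) = 0 := by
    have h := congrArg φP (relation_twistOver (n := n) (Y := Y) (-((n + 1 : ℕ) : ℤ)))
    rw [hline, map_R] at h
    have hv : ∀ j : ℕ, j ≤ n + 1 →
        φP (KRR.cl (KRR.PY n Y) (Twist.twistOver n Y ((j : ℤ) + -((n + 1 : ℕ) : ℤ)))) = l₁ ^ (n + 1 - j) := fun j hj => by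
      rw [show (j : ℤ) + -((n + 1 : ℕ) : ℤ) = -(((n + 1 - j : ℕ)) : ℤ) by omega, hline]
    simp only [R] at h
    rw [hv (n + 1) le_rfl, Nat.sub_self, pow_zero,
      Finset.sum_congr rfl (fun p hp => by
        rw [hv (n - p) (by omega), show n + 1 - (n - p) = p + 1 by have := Finset.mem_range.1 hp; omega])] at h
    have hsq : (-1 : KP) ^ n * (-1 : KP) ^ n = 1 := by rw [← mul_pow]; simp
    simp only [zsmul_eq_mul, Int.cast_pow, Int.cast_neg, Int.cast_one, Int.cast_mul, Int.cast_natCast] at h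
    rw [ht_eq]
    rw [sub_eq_add_neg, add_comm, add_pow, Finset.sum_range_succ' _ (n + 1), Finset.sum_range_succ]
    have hsum : ∑ i ∈ Finset.range n, (-l₁) ^ (i + 1) * 1 ^ (n + 1 - (i + 1)) * ((n + 1).choose (i + 1) : KP) =
        - ∑ p ∈ Finset.range n, (-1 : KP) ^ p * ((n + 1).choose (p + 1) : KP) * l₁ ^ (p + 1) := by
      rw [← Finset.sum_neg_distrib]
      refine Finset.sum_congr rfl fun p _ => ?_
      rw [one_pow, neg_pow l₁, pow_succ (-1 : KP)]
      ring
    rw [hsum, neg_pow l₁ (n + 1), pow_succ (-1 : KP) n]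
    simp only [one_pow, Nat.choose_self, Nat.cast_one, pow_zero, Nat.choose_zero_right, one_mul, mul_one]
    linear_combination (-(-1 : KP) ^ n) * h + ((-(1 : KP)) + ∑ p ∈ Finset.range n,
      (-1 : KP) ^ p * ((n + 1).choose (p + 1) : KP) * l₁ ^ (p + 1)) * hsq
  -- the inclusion `F^k ⊆ J k`
  have hle : ∀ m, ∀ z ∈ gammaFiltration PP m, m ≠ 0 → z ∈ J m := by
    intro m z hz hm
    rw [gammaFiltration, if_neg hm] at hz
    refine (AddSubgroup.closure_le _).2 ?_ hz
    rintro _ ⟨l, hl, hs, rfl⟩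
    refine hfam.anti hs ?_
    clear hs
    induction l with
    | nil => simpa using hfam.one
    | cons p l ih =>
      simp only [List.map_cons, List.sum_cons, List.prod_cons]
      exact hfam.mul (hgamma p.2 (hl p List.mem_cons_self) p.1) (ih fun p' hp' => hl p' (List.mem_cons_of_mem _ hp'))
  rcases Nat.eq_zero_or_pos k with rfl | hk
  · rw [Nat.zero_sub]; exact htop _
  refine hJle k ((gammaFiltration PY (k - n)).comap g) ?_ (hle k x hx hk.ne')
  intro i y hy
  show g (q y * t ^ i) ∈ gammaFiltration PY (k - n)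
  rcases Nat.lt_or_ge n i with hi | hi
  · rw [show t ^ i = t ^ (n + 1) * t ^ (i - (n + 1)) by rw [← pow_add]; congr 1; omega, hrel, zero_mul,
      mul_zero, map_zero]
    exact zero_mem _
  · rw [mul_comm, S3762.result n Y KP PP φP hKP KY PY φY hKY g hg q hq (t ^ i) y, mul_comm]
    have := fil_mul PY (fil_anti PY (show k - n ≤ k - i by omega) hy) (htop (g (t ^ i)))
    rwa [add_zero] at this

end Groth.Agent.KRR49
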