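import Groth.Agent.KRR49.PushReg
import Groth.Agent.CohLin.Basic
import Groth.Agent.ProjForm.Theta

/-!
# Regularity of `F ⊗ p^* E`
-/

set_option autoImplicit false
set_option linter.style.haveILetI false

open CategoryTheory CategoryTheory.Limits AlgebraicGeometry TopologicalSpace
open Groth.Agent.ProjTwist

universe u

noncomputable section

namespace Groth.Agent.KRR49

variable {n : ℕ} {Y : Scheme.{u}}

theorem subsingleton_tens_free {Z : Scheme.{u}} (A : Z.Modules) (q m : ℕ)
    [Subsingleton (Coh.HH Z A q)] :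
    Subsingleton (Coh.HH Z (CohB1.tensorMod A (FlatMod.freeMod Z m)) q) := by
  haveI : PreservesColimitsOfSize.{0, 0} ((DCoh.tensorBi (X := Z)).obj A) :=
    KFlat.TensorLocFree.preservesColimits_tensorBi_obj A
  let e : CohB1.tensorMod A (FlatMod.freeMod Z m) ≅ ∐ fun _ : ULift.{u} (Fin m) => A :=
    (PreservesCoproduct.iso ((DCoh.tensorBi (X := Z)).obj A) fun _ : Fin m => Coh.structureModule Z) ≪≫
      Sigma.mapIso (fun _ => tensOne A) ≪≫
      Sigma.whiskerEquiv (f := fun _ : Fin m => A) (g := fun _ : ULift.{u} (Fin m) => A)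
        Equiv.ulift.symm (fun _ => Iso.refl A)
  have := CohLin.subsingleton_sigma (fun _ : ULift.{u} (Fin m) => A) q
  exact (CohLin.hIso e q).injective.subsingleton

/-- `F ⊗ p^* E` is regular with `F`. -/
theorem isRegSheaf_tens_pull {F : (KRR.PY n Y).Modules} (hF : Coh.IsQCoh F)
    (hreg : KRR.IsRegSheaf n Y F) {E : Y.Modules} (hE : FlatMod.IsFinLocFree E) :
    KRR.IsRegSheaf n Y (CohB1.tensorMod F ((Scheme.Modules.pullback (KRR.pr n Y)).obj E)) := by
  intro i hi
  let P := (Scheme.Modules.pullback (KRR.pr n Y)).obj E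
  let A := KRR.twF n Y (-(i : ℤ)) F
  haveI : A.IsQuasicoherent := KRRReg49.isQCoh_twF hF _
  haveI : P.IsQuasicoherent :=
    PerfTri.Betti.isQuasicoherent_of_isFinLocFree (KFlat.LocFree.isFinLocFree_pull _ hE)
  haveI : (CohB1.tensorMod A P).IsQuasicoherent := LimTop.TensorQC.isQuasicoherent_tensM A P
  refine KRRLib.isZero_congr (n := n) (T := Y) (tensAssoc (Twist.twistOver n Y (-(i : ℤ))) F P) i ?_
  obtain ⟨q, rfl⟩ := Nat.exists_eq_add_of_le' hi
  choose U m hyU he using hE
  choose W hW hyW hWU using fun y : Y =>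
    exists_isAffineOpen_mem_and_subset (X := Y) (x := y) (U := U y) (hyU y)
  refine isZero_RpushAb_of_cover_charts (CohB1.tensorMod A P) W hW (fun y => ⟨y, hyW y⟩) q fun y => ?_
  letI := TwistFlat.isOpenImmersion_chart n (hW y)
  have hr : Set.range (hW y).fromSpec ⊆ Set.range (U y).ι := by
    rw [IsAffineOpen.range_fromSpec, Scheme.Opens.range_ι]
    exact hWU y
  let lift := IsOpenImmersion.lift (U y).ι (hW y).fromSpec hr
  obtain ⟨eU⟩ := he y
  let c := TwistFlat.chart n (hW y)
  let t := CohB1.ProjSpace.toSpec n Γ(Y, W y) ≫ lift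
  have hc : c ≫ KRR.pr n Y = t ≫ (U y).ι := by
    rw [Category.assoc, IsOpenImmersion.lift_fac]
    exact (TwistFlat.isPullback_chart n (hW y)).w.symm
  let eP : P.restrict c ≅ FlatMod.freeMod (CohB1.ProjSpace n Γ(Y, W y)) (m y) :=
    (Scheme.Modules.restrictFunctorIsoPullback c).app _ ≪≫
      (Scheme.Modules.pullbackComp c (KRR.pr n Y)).app E ≪≫
      (Scheme.Modules.pullbackCongr hc).app E ≪≫
      ((Scheme.Modules.pullbackComp t (U y).ι).app E).symm ≪≫
      (Scheme.Modules.pullback t).mapIso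
        (((Scheme.Modules.restrictFunctorIsoPullback (U y).ι).app E).symm ≪≫ eU) ≪≫
      KFlat.LocFree.pullFreeIso t (m y)
  let e : (CohB1.tensorMod A P).restrict c ≅
      CohB1.tensorMod (A.restrict c) (FlatMod.freeMod (CohB1.ProjSpace n Γ(Y, W y)) (m y)) :=
    (Scheme.Modules.restrictFunctorIsoPullback c).app _ ≪≫ KFlat.PullTensor.pullTensorIso c A P ≪≫
      tensCongr ((Scheme.Modules.restrictFunctorIsoPullback c).app A).symm
        (((Scheme.Modules.restrictFunctorIsoPullback c).app P).symm ≪≫ eP)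
  obtain ⟨e₀⟩ := KRRReg49.nonempty_restrict_twF (hW y) F (-((q + 1 : ℕ) : ℤ))
  have h0 := KRRReg49.subsingleton_of_isZero_twF hF (-((q + 1 : ℕ) : ℤ)) (q + 1) (by omega)
    (hreg (q + 1) (by omega)) (hW y)
  haveI : Subsingleton (Coh.HH (CohB1.ProjSpace n Γ(Y, W y)) (A.restrict c) (q + 1)) :=
    (CohLin.hIso e₀ (q + 1)).injective.subsingleton
  have := subsingleton_tens_free (A.restrict c) (q + 1) (m y)
  exact (CohLin.hIso e (q + 1)).injective.subsingleton

end Groth.Agent.KRR49
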