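import Groth.Agent.KRR49.PushTwist
import Groth.Agent.KRR49.TensPull
import Groth.Agent.KRRReg49.Counit

/-!
# `K(P^n_Y)` is generated by the twisted pull-backs `p^*E(-k)`, `k ≤ n`
-/

set_option autoImplicit false
set_option linter.style.haveILetI false

open CategoryTheory CategoryTheory.Limits AlgebraicGeometry TopologicalSpace
open Groth.Agent.ProjTwist

universe u

noncomputable section

namespace Groth.Agent.KRR49

variable {n : ℕ} {Y : Scheme.{u}}

theorem isZero_above {M : (KRR.PY n Y).Modules} (hM : Coh.IsQCoh M) (i : ℕ) (hi : n < i) :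
    IsZero ((Coh.RpushAb (KRR.pr n Y) i).obj (Coh.toAb M)) := by
  haveI : M.IsQuasicoherent := hM
  refine GrModLib.isZero_RpushAb_of_charts _ _ i fun V hV => ?_
  letI := TwistFlat.isOpenImmersion_chart n hV
  exact ⟨_, TwistFlat.chart n hV, inferInstance, GrModLib.opensRange_chart n hV,
    Pn.subsingleton_above _ (Scheme.Modules.isQuasicoherent_restrictFunctor _ M) i hi⟩

theorem isZero_R0_of_push {M : (KRR.PY n Y).Modules}
    (h : IsZero ((Scheme.Modules.pushforward (KRR.pr n Y)).obj M)) :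
    IsZero ((Coh.RpushAb (KRR.pr n Y) 0).obj (Coh.toAb M)) :=
  IsZero.of_iso ((ModShf.toAbFunctor Y).map_isZero h)
    (((Coh.pushAb (KRR.pr n Y)).rightDerivedZeroIsoSelf).app (Coh.toAb M))

theorem isZero_tens_pull {A : (KRR.PY n Y).Modules} (hA : Coh.IsQCoh A) (i : ℕ)
    (h : IsZero ((Coh.RpushAb (KRR.pr n Y) i).obj (Coh.toAb A))) {E : Y.Modules}
    (hE : FlatMod.IsFinLocFree E) :
    IsZero ((Coh.RpushAb (KRR.pr n Y) i).obj
      (Coh.toAb (CohB1.tensorMod A ((Scheme.Modules.pullback (KRR.pr n Y)).obj E)))) := by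
  rcases Nat.eq_zero_or_pos i with rfl | hi
  · haveI := ProjForm.isIso_θ_of_isFinLocFree (KRR.pr n Y) A hE
    refine isZero_R0_of_push ?_
    exact IsZero.of_iso (((DCoh.tensorBi (X := Y)).flip.obj E).map_isZero (isZero_push_of_isZero h))
      (asIso ((KFlat.ProjFormula.θ (KRR.pr n Y) A).app E)).symm
  let P := (Scheme.Modules.pullback (KRR.pr n Y)).obj E
  haveI : A.IsQuasicoherent := hA
  haveI : P.IsQuasicoherent :=
    PerfTri.Betti.isQuasicoherent_of_isFinLocFree (KFlat.LocFree.isFinLocFree_pull _ hE)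
  haveI : (CohB1.tensorMod A P).IsQuasicoherent := LimTop.TensorQC.isQuasicoherent_tensM A P
  obtain ⟨q, rfl⟩ := Nat.exists_eq_add_of_le' hi
  choose U m hyU he using hE
  choose W hW hyW hWU using fun y : Y =>
    exists_isAffineOpen_mem_and_subset (X := Y) (x := y) (U := U y) (hyU y)
  refine isZero_RpushAb_of_cover_charts (CohB1.tensorMod A P) W hW (fun y => ⟨y, hyW y⟩) q fun y => ?_
  letI := TwistFlat.isOpenImmersion_chart n (hW y)
  haveI := TwistFlat.isProper_toBase n Y
  have hr : Set.range (hW y).fromSpec ⊆ Set.range (U y).ι := by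
    rw [IsAffineOpen.range_fromSpec, Scheme.Opens.range_ι]
    exact hWU y
  let lift := IsOpenImmersion.lift (U y).ι (hW y).fromSpec hr
  obtain ⟨eU⟩ := he y
  let c := TwistFlat.chart n (hW y)
  let t := CohB1.ProjSpace.toSpec n Γ(Y, W y) ≫ lift
  have hc : c ≫ KRR.pr n Y = t ≫ (U y).ι := by
    rw [Category.assoc, IsOpenImmersion.lift_fac]
    exact (TwistFlat.isPullback_chart n (hW y)).w.symm
  let eP : P.restrict c ≅ FlatMod.freeMod (CohB1.ProjSpace n Γ(Y, W y)) (m y) :=
    (Scheme.Modules.restrictFunctorIsoPullback c).app _ ≪≫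
      (Scheme.Modules.pullbackComp c (KRR.pr n Y)).app E ≪≫
      (Scheme.Modules.pullbackCongr hc).app E ≪≫
      ((Scheme.Modules.pullbackComp t (U y).ι).app E).symm ≪≫
      (Scheme.Modules.pullback t).mapIso
        (((Scheme.Modules.restrictFunctorIsoPullback (U y).ι).app E).symm ≪≫ eU) ≪≫
      KFlat.LocFree.pullFreeIso t (m y)
  let e : (CohB1.tensorMod A P).restrict c ≅
      CohB1.tensorMod (A.restrict c) (FlatMod.freeMod (CohB1.ProjSpace n Γ(Y, W y)) (m y)) :=
    (Scheme.Modules.restrictFunctorIsoPullback c).app _ ≪≫ KFlat.PullTensor.pullTensorIso c A P ≪≫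
      tensCongr ((Scheme.Modules.restrictFunctorIsoPullback c).app A).symm
        (((Scheme.Modules.restrictFunctorIsoPullback c).app P).symm ≪≫ eP)
  haveI := KRRReg49.subsingleton_HH_chart (KRR.pr n Y) A (q + 1) (by omega) h (hW y) c
    (GrModLib.opensRange_chart n (hW y))
  have := subsingleton_tens_free (A.restrict c) (q + 1) (m y)
  exact (CohLin.hIso e (q + 1)).injective.subsingleton

theorem isZero_twF_pull {E : Y.Modules} (hE : FlatMod.IsFinLocFree E) (i : ℕ) (d : ℤ)
    (h : ¬ ((i = 0 ∧ 0 ≤ d) ∨ (i = n ∧ d ≤ -((n : ℤ) + 1)))) :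
    IsZero ((Coh.RpushAb (KRR.pr n Y) i).obj
      (Coh.toAb (KRR.twF n Y d ((Scheme.Modules.pullback (KRR.pr n Y)).obj E)))) :=
  isZero_tens_pull (TwistFlat.isQCoh_twistOver n Y d) i (GrModLib.isZero_RpushAb_twistOver Y n i d h) hE

/-- `p_* p^* E ≅ E`. -/
theorem nonempty_push_pull {E : Y.Modules} (hE : FlatMod.IsFinLocFree E) :
    Nonempty ((Scheme.Modules.pushforward (KRR.pr n Y)).obj ((Scheme.Modules.pullback (KRR.pr n Y)).obj E) ≅ E) := by
  haveI := ProjForm.isIso_θ_of_isFinLocFree (KRR.pr n Y) (Coh.structureModule (KRR.PY n Y)) hE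
  obtain ⟨u⟩ := nonempty_push_unit_iso n Y
  exact ⟨(Scheme.Modules.pushforward (KRR.pr n Y)).mapIso (oneTens _).symm ≪≫
    (asIso ((KFlat.ProjFormula.θ (KRR.pr n Y) (Coh.structureModule (KRR.PY n Y))).app E)).symm ≪≫
    tensCongr u (Iso.refl E) ≪≫ oneTens E⟩

theorem isIso_of_epi_endo {E : Y.Modules} (hE : FlatMod.IsFinLocFree E) (f : E ⟶ E) [Epi f] : IsIso f :=
  KFlat.PullTensor.isIso_of_stalk_bijective f fun y => by
    haveI := PerfTri.Betti.isQuasicoherent_of_isFinLocFree hE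
    haveI := (Props.QProj.free_stalk _ hE y).2
    have hs := PullStalk.Exact.stalk_surjective f y
    exact ⟨OrzechProperty.injective_of_surjective_endomorphism (PullStalk.Exact.stalkLin f y) hs, hs⟩

/-- The kernel of the counit, twisted. -/
abbrev nextF (F : (KRR.PY n Y).Modules) : (KRR.PY n Y).Modules :=
  KRR.twF n Y 1 (kernel ((Scheme.Modules.pullbackPushforwardAdjunction (KRR.pr n Y)).counit.app F))

/-- Vanishing of `R^i p_*` of the twists by `-1, …, -k`. -/
def Van (k : ℕ) (F : (KRR.PY n Y).Modules) : Prop :=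
  ∀ j : ℕ, 1 ≤ j → j ≤ k → ∀ i : ℕ,
    IsZero ((Coh.RpushAb (KRR.pr n Y) i).obj (Coh.toAb (KRR.twF n Y (-(j : ℤ)) F)))

variable [IsNoetherian Y]

theorem counit_seq {F : (KRR.PY n Y).Modules} (hF : regP n Y F) :
    ∃ h : Epi ((Scheme.Modules.pullbackPushforwardAdjunction (KRR.pr n Y)).counit.app F),
      (ShortComplex.mk (kernel.ι ((Scheme.Modules.pullbackPushforwardAdjunction (KRR.pr n Y)).counit.app F))
        ((Scheme.Modules.pullbackPushforwardAdjunction (KRR.pr n Y)).counit.app F)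
        (kernel.condition _)).ShortExact := by
  haveI := TwistFlat.isProper_toBase n Y
  haveI : IsLocallyNoetherian (KRR.PY n Y) := LocallyOfFiniteType.isLocallyNoetherian (KRR.pr n Y)
  have h : Epi ((Scheme.Modules.pullbackPushforwardAdjunction (KRR.pr n Y)).counit.app F) :=
    S19429.result n Y F (VBLib.isCoh_of_isFinLocFree hF.1).1 hF.2
  exact ⟨h, @ResK0.Basic.shortExact_kernel _ _ _ _ _ _ h⟩

theorem regP_next {F : (KRR.PY n Y).Modules} (hF : regP n Y F) : regP n Y (nextF F) := by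
  haveI := TwistFlat.isProper_toBase n Y
  haveI : IsLocallyNoetherian (KRR.PY n Y) := LocallyOfFiniteType.isLocallyNoetherian (KRR.pr n Y)
  obtain ⟨h, hS⟩ := counit_seq hF
  refine ⟨isFinLocFree_twF (ResK0.VbKernel.isFinLocFree_X₁ hS
    (KFlat.LocFree.isFinLocFree_pull _ (S3756.result n Y F hF.1 hF.2)) hF.1) _, ?_⟩
  exact KRRReg49.isRegSheaf_twF_one_kernel_counit (VBLib.isCoh_of_isFinLocFree hF.1).1 hF.2

theorem isIso_push_counit {F : (KRR.PY n Y).Modules} (hF : regP n Y F) :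
    IsIso ((Scheme.Modules.pushforward (KRR.pr n Y)).map
      ((Scheme.Modules.pullbackPushforwardAdjunction (KRR.pr n Y)).counit.app F)) := by
  let adj := Scheme.Modules.pullbackPushforwardAdjunction (KRR.pr n Y)
  have hE := S3756.result n Y F hF.1 hF.2
  obtain ⟨e⟩ := nonempty_push_pull (n := n) hE
  haveI : Epi ((Scheme.Modules.pushforward (KRR.pr n Y)).map (adj.counit.app F)) :=
    epi_of_epi_fac (adj.right_triangle_components F)
  haveI := isIso_of_epi_endo hE (e.inv ≫ (Scheme.Modules.pushforward (KRR.pr n Y)).map (adj.counit.app F))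
  exact IsIso.of_isIso_comp_left e.inv _

theorem van_next {F : (KRR.PY n Y).Modules} (hF : regP n Y F) {k : ℕ} (hk : k ≤ n) (hV : Van k F) :
    Van (k + 1) (nextF F) := by
  haveI := TwistFlat.isProper_toBase n Y
  haveI : IsLocallyNoetherian (KRR.PY n Y) := LocallyOfFiniteType.isLocallyNoetherian (KRR.pr n Y)
  let adj := Scheme.Modules.pullbackPushforwardAdjunction (KRR.pr n Y)
  let Z := kernel (adj.counit.app F)
  have hE := S3756.result n Y F hF.1 hF.2
  obtain ⟨_, hS⟩ := counit_seq hF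
  haveI : (Scheme.Modules.pushforward (KRR.pr n Y)).IsRightAdjoint :=
    (Scheme.Modules.pullbackPushforwardAdjunction (KRR.pr n Y)).isRightAdjoint
  haveI : PreservesFiniteLimits (Scheme.Modules.pushforward (KRR.pr n Y)) := inferInstance
  intro j hj1 hjk i
  obtain ⟨m, rfl⟩ : ∃ m, j = m + 1 := ⟨j - 1, by omega⟩
  refine KRRLib.isZero_congr (KRRLib.twTw Z 1 (-((m + 1 : ℕ) : ℤ)) (-(m : ℤ)) (by push_cast; ring)).symm i ?_
  rcases Nat.eq_zero_or_pos m with rfl | hm
  · rcases Nat.eq_zero_or_pos i with rfl | hi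
    · refine KRRLib.isZero_congr (eqToIso (by simp) ≪≫ twF0 Z).symm 0 (isZero_R0_of_push ?_)
      haveI := isIso_push_counit hF
      haveI : Mono ((Scheme.Modules.pushforward (KRR.pr n Y)).map (kernel.ι (adj.counit.app F))) :=
        inferInstance
      refine IsZero.of_mono_eq_zero ((Scheme.Modules.pushforward (KRR.pr n Y)).map (kernel.ι (adj.counit.app F))) ?_
      rw [← cancel_mono ((Scheme.Modules.pushforward (KRR.pr n Y)).map (adj.counit.app F)),
        ← Functor.map_comp, kernel.condition, Functor.map_zero, zero_comp]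
    · refine KRRLib.isZero_congr (KRRLib.twTw Z 1 (-1) (-((0 : ℕ) : ℤ)) (by simp)) i ?_
      exact KRRReg49.isZero_twF_of_isRegSheaf
        (VBLib.isCoh_of_isFinLocFree (regP_next hF).1).1 (regP_next hF).2 i hi (-1) (by omega)
  · have hP : ∀ a, IsZero ((Coh.RpushAb (KRR.pr n Y) a).obj (Coh.toAb (KRR.twF n Y (-(m : ℤ))
        ((Scheme.Modules.pullback (KRR.pr n Y)).obj ((Scheme.Modules.pushforward (KRR.pr n Y)).obj F))))) :=
      fun a => isZero_twF_pull hE a _ (by omega)
    rcases Nat.eq_zero_or_pos i with rfl | hi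
    · refine isZero_R0_of_push ?_
      have hm' : Mono ((KRRLib.twFun n Y (-(m : ℤ))).map (kernel.ι (adj.counit.app F))) :=
        (KRRLib.shortExact_tw hS (-(m : ℤ))).mono_f
      haveI := hm'
      exact @IsZero.of_mono _ _ _ _ _ ((Scheme.Modules.pushforward (KRR.pr n Y)).map
        ((KRRLib.twFun n Y (-(m : ℤ))).map (kernel.ι (adj.counit.app F))))
        (@CategoryTheory.Functor.map_mono _ _ _ _ (Scheme.Modules.pushforward (KRR.pr n Y))
          inferInstance _ _ _ hm') (isZero_push_of_isZero (hP 0))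
    · obtain ⟨a, rfl⟩ := Nat.exists_eq_add_of_le' hi
      exact ((KRRLib.les n Y).exact₁ _ (KRRLib.shortExact_ab hS (-(m : ℤ))) a (a + 1) rfl).isZero_of_both_zeros
        ((hV m hm (by omega) a).eq_of_src _ _) ((hP (a + 1)).eq_of_tgt _ _)

theorem isZero_of_van {G : (KRR.PY n Y).Modules} (hG : regP n Y G) (hV : Van (n + 1) G) : IsZero G := by
  haveI := TwistFlat.isProper_toBase n Y
  haveI : IsLocallyNoetherian (KRR.PY n Y) := LocallyOfFiniteType.isLocallyNoetherian (KRR.pr n Y)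
  have hH : FlatMod.IsFinLocFree (KRR.twF n Y (-1) G) := isFinLocFree_twF hG.1 _
  have hHq := (VBLib.isCoh_of_isFinLocFree hH).1
  have hHr : KRR.IsRegSheaf n Y (KRR.twF n Y (-1) G) := fun i hi => by
    by_cases hin : i ≤ n
    · exact KRRLib.isZero_congr (KRRLib.twTw G (-1) (-(i : ℤ)) (-((i + 1 : ℕ) : ℤ)) (by push_cast; ring)).symm i
        (hV (i + 1) (by omega) (by omega) i)
    · exact isZero_above (KRRReg49.isQCoh_twF hHq _) i (by omega)
  have hp : IsZero ((Scheme.Modules.pushforward (KRR.pr n Y)).obj (KRR.twF n Y (-1) G)) :=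
    isZero_push_of_isZero (KRRLib.isZero_congr (eqToIso (by simp)) 0 (hV 1 le_rfl (by omega) 0))
  haveI : Epi ((Scheme.Modules.pullbackPushforwardAdjunction (KRR.pr n Y)).counit.app (KRR.twF n Y (-1) G)) :=
    S19429.result n Y _ hHq hHr
  have hz : IsZero (KRR.twF n Y (-1) G) := IsZero.of_epi
    ((Scheme.Modules.pullbackPushforwardAdjunction (KRR.pr n Y)).counit.app (KRR.twF n Y (-1) G))
    ((Scheme.Modules.pullback (KRR.pr n Y)).map_isZero hp)
  exact IsZero.of_iso ((KRRLib.twFun n Y 1).map_isZero hz)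
    ((KRRLib.twTw G (-1) 1 ((0 : ℕ) : ℤ) (by norm_num)) ≪≫ twF0 G).symm

/-- Maps out of `K(P^n_Y)` agree when they agree on the `p^*E(-k)`, `k ≤ n`. -/
theorem hom_ext_pull {G : Type*} [AddCommGroup G] {a b : SGA6.Kvb (KRR.PY n Y) →+ G}
    (h : ∀ (E : Y.Modules), FlatMod.IsFinLocFree E → ∀ k : ℕ, k ≤ n →
      a (KRR.cl (KRR.PY n Y) (KRR.twF n Y (-(k : ℤ)) ((Scheme.Modules.pullback (KRR.pr n Y)).obj E))) =
        b (KRR.cl (KRR.PY n Y) (KRR.twF n Y (-(k : ℤ)) ((Scheme.Modules.pullback (KRR.pr n Y)).obj E)))) :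
    a = b := by
  have key : ∀ c k, k + c = n + 1 → ∀ F, regP n Y F → Van k F →
      a (KRR.cl (KRR.PY n Y) (KRR.twF n Y (-(k : ℤ)) F)) = b (KRR.cl (KRR.PY n Y) (KRR.twF n Y (-(k : ℤ)) F)) := by
    intro c
    induction c with
    | zero =>
      intro k hk F hF hV
      obtain rfl : k = n + 1 := by omega
      rw [show KRR.cl (KRR.PY n Y) (KRR.twF n Y (-((n + 1 : ℕ) : ℤ)) F) = 0 from
        S3205.clSub_eq_zero (P := KRR.vbP (KRR.PY n Y)) (isFinLocFree_twF hF.1 _)
          ((KRRLib.twFun n Y _).map_isZero (isZero_of_van hF hV)), map_zero, map_zero]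
    | succ c ih =>
      intro k hk F hF hV
      haveI := TwistFlat.isProper_toBase n Y
      haveI : IsLocallyNoetherian (KRR.PY n Y) := LocallyOfFiniteType.isLocallyNoetherian (KRR.pr n Y)
      have hE := S3756.result n Y F hF.1 hF.2
      obtain ⟨_, hS⟩ := counit_seq hF
      have hP := KFlat.LocFree.isFinLocFree_pull (KRR.pr n Y) hE
      have hZ := ResK0.VbKernel.isFinLocFree_X₁ hS hP hF.1
      have hcl : KRR.cl (KRR.PY n Y) (KRR.twF n Y (-(k : ℤ))
            ((Scheme.Modules.pullback (KRR.pr n Y)).obj ((Scheme.Modules.pushforward (KRR.pr n Y)).obj F))) =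
          KRR.cl (KRR.PY n Y) (KRR.twF n Y (-(k : ℤ))
            (kernel ((Scheme.Modules.pullbackPushforwardAdjunction (KRR.pr n Y)).counit.app F))) +
          KRR.cl (KRR.PY n Y) (KRR.twF n Y (-(k : ℤ)) F) :=
        ResK0.Basic.clSub_add (KRR.vbP (KRR.PY n Y)) (KRRLib.shortExact_tw hS (-(k : ℤ)))
          (isFinLocFree_twF hZ _) (isFinLocFree_twF hP _) (isFinLocFree_twF hF.1 _)
      have hz : KRR.cl (KRR.PY n Y) (KRR.twF n Y (-((k + 1 : ℕ) : ℤ)) (nextF F)) =
          KRR.cl (KRR.PY n Y) (KRR.twF n Y (-(k : ℤ))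
            (kernel ((Scheme.Modules.pullbackPushforwardAdjunction (KRR.pr n Y)).counit.app F))) :=
        clSub_iso (KRRLib.twTw _ 1 (-((k + 1 : ℕ) : ℤ)) (-(k : ℤ)) (by push_cast; ring))
          (isFinLocFree_twF (regP_next hF).1 _) (isFinLocFree_twF hZ _) (fun _ => S3205.flf_of_isZero)
      have h1 := ih (k + 1) (by omega) (nextF F) (regP_next hF) (van_next hF (by omega) hV)
      have h2 := h _ hE k (by omega)
      rw [hz] at h1
      rw [hcl, map_add, map_add, h1] at h2
      exact add_left_cancel h2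
  refine hom_ext_reg fun F hF => ?_
  have := key (n + 1) 0 (by omega) F hF fun j h1 h2 => absurd h2 (by omega)
  rwa [show KRR.cl (KRR.PY n Y) (KRR.twF n Y (-((0 : ℕ) : ℤ)) F) = KRR.cl (KRR.PY n Y) F from
    clSub_iso (eqToIso (by simp) ≪≫ twF0 F) (isFinLocFree_twF hF.1 _) hF.1
      (fun _ => S3205.flf_of_isZero)] at this

/-- `p_K [O(-k)]` for `k ≤ n`. -/
theorem push_twistOver_cases.{w} {KP KY : Type w} [CommRing KP] [CommRing KY]
    (φP : SGA6.Kvb (KRR.PY n Y) →+ KP) (φY : SGA6.Kvb Y →+ KY) (g : KP →+ KY)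
    (hg : KRR.IsPushPr n Y φP φY g) (k : ℕ) (hk : k ≤ n) :
    g (φP (KRR.cl (KRR.PY n Y) (Twist.twistOver n Y (-(k : ℤ))))) =
      if k = 0 then φY (KRR.cl Y (Coh.structureModule Y)) else 0 := by
  split_ifs with h
  · subst h
    have hr : KRR.IsRegSheaf n Y (Coh.structureModule (KRR.PY n Y)) := fun i hi =>
      KRRLib.isZero_congr (tensOne (Twist.twistOver n Y (-(i : ℤ)))).symm i
        (GrModLib.isZero_RpushAb_twistOver Y n i (-(i : ℤ)) (by omega))
    have e : Twist.twistOver n Y (-((0 : ℕ) : ℤ)) ≅ Coh.structureModule (KRR.PY n Y) :=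
      eqToIso (by simp) ≪≫ KRRLib.twistZero
    have hO := isFinLocFree_one (LFFrame.isInvertible_structureModule (KRR.PY n Y))
    rw [show KRR.cl (KRR.PY n Y) (Twist.twistOver n Y (-((0 : ℕ) : ℤ))) =
        KRR.cl (KRR.PY n Y) (Coh.structureModule (KRR.PY n Y)) from S3205.clSub_congr e.hom hO, hg _ hO hr]
    obtain ⟨u⟩ := nonempty_push_unit_iso n Y
    exact congrArg φY (S3205.clSub_congr u.hom (isFinLocFree_one (LFFrame.isInvertible_structureModule Y)))
  · exact push_twistOver_neg φP φY g hg k (by omega) hk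

end Groth.Agent.KRR49
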