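import Groth.Agent.KRR49.RegK0
import Groth.Agent.S3756

/-!
# Direct images of regular bundles on `P^n_Y`
-/

set_option autoImplicit false
set_option linter.style.haveILetI false

open CategoryTheory CategoryTheory.Limits AlgebraicGeometry

universe u

noncomputable section

namespace Groth.Agent.KRR49

variable {n : ℕ} {Y : Scheme.{u}}

/-- `p_*` is exact on sequences with regular kernel. -/
theorem shortExact_push_of_reg {S : ShortComplex (KRR.PY n Y).Modules} (hS : S.ShortExact)
    (hq : Coh.IsQCoh S.X₁) (h₁ : KRR.IsRegSheaf n Y S.X₁) :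
    (S.map (Scheme.Modules.pushforward (KRR.pr n Y))).ShortExact := by
  haveI : (Scheme.Modules.pushforward (KRR.pr n Y)).IsRightAdjoint :=
    (Scheme.Modules.pullbackPushforwardAdjunction (KRR.pr n Y)).isRightAdjoint
  haveI : PreservesFiniteLimits (Scheme.Modules.pushforward (KRR.pr n Y)) := inferInstance
  haveI := hS.mono_f
  have hz : IsZero ((Coh.RpushAb (KRR.pr n Y) 1).obj (Coh.toAb S.X₁)) :=
    KRRLib.isZero_congr ((KRRLib.twFunZero (n := n) (T := Y)).app S.X₁) 1
      (KRRReg49.isZero_twF_of_isRegSheaf hq h₁ 1 le_rfl 0 (by norm_num))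
  have hA := KFlat.QCohAcy.shortExact_toAb hS
  have he : Epi ((Coh.pushAb (KRR.pr n Y)).rightDerived 0 |>.map
      ((ModShf.toAbFunctor (KRR.PY n Y)).map S.g)) :=
    ((KRRLib.les n Y).exact₃ _ hA 0 1 rfl).epi_f (hz.eq_of_tgt _ _)
  have he' : Epi ((Coh.pushAb (KRR.pr n Y)).map ((ModShf.toAbFunctor (KRR.PY n Y)).map S.g)) := by
    rw [← NatIso.naturality_1 (Coh.pushAb (KRR.pr n Y)).rightDerivedZeroIsoSelf]
    exact @epi_comp _ _ _ _ _ _ inferInstance _ (@epi_comp _ _ _ _ _ _ he _ inferInstance)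
  have he'' : Epi ((ModShf.toAbFunctor Y).map ((Scheme.Modules.pushforward (KRR.pr n Y)).map S.g)) := he'
  haveI : (ModShf.toAbFunctor Y).Faithful := inferInstanceAs (SheafOfModules.toSheaf Y.ringCatSheaf).Faithful
  exact
    { exact := hS.exact.map_of_mono_of_preservesKernel _ hS.mono_f inferInstance
      mono_f := inferInstanceAs (Mono ((Scheme.Modules.pushforward (KRR.pr n Y)).map S.f))
      epi_g := (ModShf.toAbFunctor Y).epi_of_epi_map he'' }

/-- The direct image on `K₀` of regular bundles. -/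
theorem exists_pushHom [IsNoetherian Y] :
    ∃ g : KZero.K0sub (regP n Y) →+ SGA6.Kvb Y, ∀ F, regP n Y F →
      g (KZero.clSub (regP n Y) F) = KRR.cl Y ((Scheme.Modules.pushforward (KRR.pr n Y)).obj F) := by
  haveI := TwistFlat.isProper_toBase n Y
  haveI : IsLocallyNoetherian (KRR.PY n Y) := LocallyOfFiniteType.isLocallyNoetherian (KRR.pr n Y)
  let g₀ : FreeAbelianGroup (Subtype (regP n Y)) →+ SGA6.Kvb Y :=
    FreeAbelianGroup.lift fun M => KRR.cl Y ((Scheme.Modules.pushforward (KRR.pr n Y)).obj M.1)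
  have hg : KZero.relSub (regP n Y) ≤ g₀.ker := by
    rw [KZero.relSub, AddSubgroup.closure_le]
    rintro _ ⟨S, h₁, h₂, h₃, hS, rfl⟩
    simp only [SetLike.mem_coe, AddMonoidHom.mem_ker, map_sub, g₀, FreeAbelianGroup.lift_apply_of]
    have h : KRR.cl Y ((Scheme.Modules.pushforward (KRR.pr n Y)).obj S.X₂) =
        KRR.cl Y ((Scheme.Modules.pushforward (KRR.pr n Y)).obj S.X₁) +
          KRR.cl Y ((Scheme.Modules.pushforward (KRR.pr n Y)).obj S.X₃) :=
      ResK0.Basic.clSub_add (KRR.vbP Y) (shortExact_push_of_reg hS (VBLib.isCoh_of_isFinLocFree h₁.1).1 h₁.2)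
        (S3756.result n Y S.X₁ h₁.1 h₁.2) (S3756.result n Y S.X₂ h₂.1 h₂.2) (S3756.result n Y S.X₃ h₃.1 h₃.2)
    rw [h]
    abel
  refine ⟨QuotientAddGroup.lift _ g₀ hg, fun F hF => ?_⟩
  simp only [KZero.clSub, dif_pos hF]
  exact FreeAbelianGroup.lift_apply_of _ _

/-- Regular bundle classes determine an additive map on `Kvb`. -/
theorem hom_ext_reg [IsNoetherian Y] {G : Type*} [AddCommGroup G]
    {a b : SGA6.Kvb (KRR.PY n Y) →+ G}
    (h : ∀ F, regP n Y F → a (KRR.cl (KRR.PY n Y) F) = b (KRR.cl (KRR.PY n Y) F)) : a = b := by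
  let ι := SGA6.mapSub (𝟭 (KRR.PY n Y).Modules) (regP n Y) (KRR.vbP (KRR.PY n Y)) fun _ hM => hM.1
  have hab : a.comp ι = b.comp ι := by
    refine AddMonoidHom.ext fun x => ?_
    induction x using QuotientAddGroup.induction_on with
    | H z =>
      induction z using FreeAbelianGroup.induction_on with
      | zero => simp
      | of M =>
        have hM : (QuotientAddGroup.mk (FreeAbelianGroup.of M) : KZero.K0sub (regP n Y)) =
            KZero.clSub (regP n Y) M.1 := by simp only [KZero.clSub, dif_pos M.2]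
        rw [hM, AddMonoidHom.comp_apply, AddMonoidHom.comp_apply, mapSub_cl _ M.2]
        exact h _ M.2
      | neg M hM => simp only [QuotientAddGroup.mk_neg, map_neg] at hM ⊢; rw [hM]
      | add M M' hM hM' => simp only [QuotientAddGroup.mk_add, map_add, hM, hM']
  refine AddMonoidHom.ext fun y => ?_
  obtain ⟨x, rfl⟩ := (bijective_mapSub_reg (fun _ hM => hM.1)).2 y
  exact DFunLike.congr_fun hab x

end Groth.Agent.KRR49
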