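import Groth.Agent.GrModLib.TwistInt
import Groth.Agent.ProjProper.Basic
import Groth.Agent.ProperFin.Descend
import Groth.Agent.Props.GenTensor
import Groth.Agent.FormalFun.TensorMod
import Groth.Agent.KRRLib.RegSES

/-!
`p_* O = O` for the projection of projective space.
-/

set_option autoImplicit false
set_option linter.style.haveILetI false

open CategoryTheory CategoryTheory.Limits AlgebraicGeometry TopologicalSpace Opposite

universe u

noncomputable section

namespace Groth.Agent.KRR49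

open Groth.Agent.Props.GenLocus Groth.Agent.Props.GenTensor

theorem bijective_toGlobal (n : ℕ) (R : Type u) [CommRing R] :
    Function.Bijective (Coh.toGlobal (CohB1.ProjSpace.toSpec n R)) := by
  let X := CohB1.ProjSpace n R
  let O := Coh.structureModule X
  letI : X.Over (Spec (CommRingCat.of R)) := ⟨CohB1.ProjSpace.toSpec n R⟩
  let φ : R →+* Γ(X, ⊤) := Coh.toGlobal (CohB1.ProjSpace.toSpec n R)
  let E := CohLin.hIso (X := X) (ProjTwist.twistZeroIso (CohB1.polyGrading n R)) 0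
  let L : R ≃ₗ[R] Coh.HH X O 0 :=
    ((LinearEquiv.ofBijective (Algebra.linearMap R (CohB1.polyGrading n R 0))
      (ProjProper.Basic.bijective_algebraMap_zero n R)).trans (ProjTwist.Pn.h0Equiv n R 0)).trans
      (LinearEquiv.ofBijective (CohLin.overLin R E.toLinearMap) E.bijective).symm
  let g : Γ(X, ⊤) := ProperFin.h0Sec O (L 1)
  have hsmul : ∀ c : R, (ProperFin.h0Sec O (L c) : Γ(X, ⊤)) = φ c * g := fun c => by
    have h1 : L c = c • L 1 := by rw [← map_smul, smul_eq_mul, mul_one]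
    rw [h1]
    exact ProperFin.h0Sec_smul O (φ c) (L 1)
  have hsurjg : ∀ x : Γ(X, ⊤), ∃ c, φ c * g = x := fun x => by
    obtain ⟨c, hc⟩ := L.surjective ((ProperFin.h0Sec O).symm x)
    exact ⟨c, by rw [← hsmul, hc, AddEquiv.apply_symm_apply]⟩
  have hinjg : ∀ c, φ c * g = 0 → c = 0 := fun c hc => by
    have : L c = 0 := (ProperFin.h0Sec O).injective (((hsmul c).trans hc).trans (map_zero _).symm)
    exact L.injective (this.trans (map_zero L).symm)
  obtain ⟨r, hr⟩ := hsurjg 1
  obtain ⟨s, hs⟩ := hsurjg (g * g)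
  have hrs : r * s = 1 := by
    have h1 : φ (r * s) * g = g := by
      rw [map_mul, mul_assoc, hs, ← mul_assoc, hr, one_mul]
    refine sub_eq_zero.1 (hinjg _ ?_)
    rw [map_sub, map_one, sub_mul, h1, one_mul, sub_self]
  have hgs : g = φ s := by
    calc g = φ (s * r) * g := by rw [mul_comm s r, hrs, map_one, one_mul]
      _ = φ s * (φ r * g) := by rw [map_mul, mul_assoc]
      _ = φ s := by rw [hr, mul_one]
  refine ⟨(injective_iff_map_eq_zero φ).2 fun c hc => hinjg c (by rw [hc, zero_mul]), fun x => ?_⟩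
  obtain ⟨c, rfl⟩ := hsurjg x
  exact ⟨c * s, (φ.map_mul c s).trans (congrArg (φ c * ·) hgs.symm)⟩

theorem bijective_app_pr (n : ℕ) {Y : Scheme.{u}} {V : Y.Opens} (hV : IsAffineOpen V) :
    Function.Bijective ((KRR.pr n Y).app V) := by
  letI := TwistFlat.isOpenImmersion_chart n hV
  let c := TwistFlat.chart n hV
  have hr : c ''ᵁ ⊤ = KRR.pr n Y ⁻¹ᵁ V :=
    (Scheme.Hom.image_top_eq_opensRange _).trans (GrModLib.opensRange_chart n hV)
  have hle : (⊤ : (CohB1.ProjSpace n Γ(Y, V)).Opens) ≤ c ⁻¹ᵁ (KRR.pr n Y ⁻¹ᵁ V) := by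
    rw [← hr, Scheme.Hom.preimage_image_eq]
  have h1 : Function.Bijective (c.appLE (KRR.pr n Y ⁻¹ᵁ V) ⊤ hle) := by
    haveI := c.isIso_app (KRR.pr n Y ⁻¹ᵁ V) (by rw [GrModLib.opensRange_chart n hV])
    have e : (⊤ : (CohB1.ProjSpace n Γ(Y, V)).Opens) = c ⁻¹ᵁ (KRR.pr n Y ⁻¹ᵁ V) :=
      le_antisymm hle le_top
    revert hle
    rw [e]
    intro hle
    rw [Scheme.Hom.appLE_eq_app]
    exact ConcreteCategory.bijective_of_isIso (c.app (KRR.pr n Y ⁻¹ᵁ V))
  have h2 : Function.Bijective (hV.fromSpec.appLE V ⊤ hV.fromSpec_preimage_self.ge) := by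
    haveI := hV.fromSpec.isIso_app V (by rw [hV.opensRange_fromSpec])
    have : ∀ (O : (Spec Γ(Y, V)).Opens) (hO : O ≤ hV.fromSpec ⁻¹ᵁ V), O = hV.fromSpec ⁻¹ᵁ V →
        Function.Bijective (hV.fromSpec.appLE V O hO) := by
      rintro O hO rfl
      rw [Scheme.Hom.appLE_eq_app]
      exact ConcreteCategory.bijective_of_isIso (hV.fromSpec.app V)
    exact this _ _ hV.fromSpec_preimage_self.symm
  let q := CohB1.ProjSpace.toSpec n Γ(Y, V)
  have h3 : Function.Bijective (q.appLE ⊤ ⊤ le_top) := by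
    rw [show q.appLE ⊤ ⊤ le_top = q.appTop from Scheme.Hom.appLE_eq_app q]
    exact (Function.Bijective.of_comp_iff _ (ConcreteCategory.bijective_of_isIso
      (Scheme.ΓSpecIso (CommRingCat.of Γ(Y, V))).inv)).1 (bijective_toGlobal n Γ(Y, V))
  have key : (KRR.pr n Y).app V ≫ c.appLE (KRR.pr n Y ⁻¹ᵁ V) ⊤ hle =
      hV.fromSpec.appLE V ⊤ hV.fromSpec_preimage_self.ge ≫ q.appLE ⊤ ⊤ le_top := by
    rw [Scheme.Hom.app_eq_appLE, Scheme.Hom.appLE_comp_appLE, Scheme.Hom.appLE_comp_appLE]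
    have w : c ≫ KRR.pr n Y = q ≫ hV.fromSpec := (TwistFlat.isPullback_chart n hV).w.symm
    simp only [w]
  have h4 : Function.Bijective ((KRR.pr n Y).app V ≫ c.appLE (KRR.pr n Y ⁻¹ᵁ V) ⊤ hle) := by
    rw [key]
    exact h3.comp h2
  exact (Function.Bijective.of_comp_iff' h1 _).1 h4

/-- `p_* O = O`. -/
theorem nonempty_push_unit_iso (n : ℕ) (Y : Scheme.{u}) :
    Nonempty ((Scheme.Modules.pushforward (KRR.pr n Y)).obj (Coh.structureModule (KRR.PY n Y)) ≅
      Coh.structureModule Y) := by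
  let φ : Coh.structureModule Y ⟶
      (Scheme.Modules.pushforward (KRR.pr n Y)).obj (Coh.structureModule (KRR.PY n Y)) :=
    SheafOfModules.unitToPushforwardObjUnit.{u} (KRR.pr n Y).toRingCatSheafHom
  haveI := TwistFlat.isProper_toBase n Y
  haveI : (Coh.structureModule Y).IsQuasicoherent := inferInstance
  haveI : (Coh.structureModule (KRR.PY n Y)).IsQuasicoherent := inferInstance
  haveI : ((Scheme.Modules.pushforward (KRR.pr n Y)).obj (Coh.structureModule (KRR.PY n Y))).IsQuasicoherent :=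
    QCoh.isQuasicoherent_pushforward _ _
  have : IsIso φ := FormalFun.isIso_of_affine_bijective φ fun U hU => bijective_app_pr n hU
  exact ⟨(asIso φ).symm⟩

end Groth.Agent.KRR49
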