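import Groth.Agent.KRR49.PushReg
import Groth.Agent.S3759
import Mathlib.Algebra.Group.ForwardDiff

/-!
# Direct images in `K` of the twists `O(a)`, `a ≥ -n`
-/

set_option autoImplicit false
set_option linter.style.haveILetI false

open CategoryTheory CategoryTheory.Limits AlgebraicGeometry
open Groth.Agent.ProjTwist

universe u v

noncomputable section

namespace Groth.Agent.KRR49

variable {n : ℕ} {Y : Scheme.{u}}

variable (n Y) in
/-- Bundles without higher direct images. -/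
abbrev acyP : ObjectProperty (KRR.PY n Y).Modules :=
  fun M => FlatMod.IsFinLocFree M ∧
    ∀ i : ℕ, 1 ≤ i → IsZero ((Coh.RpushAb (KRR.pr n Y) i).obj (Coh.toAb M))

theorem shortExact_push_of_acy {S : ShortComplex (KRR.PY n Y).Modules} (hS : S.ShortExact)
    (hz : IsZero ((Coh.RpushAb (KRR.pr n Y) 1).obj (Coh.toAb S.X₁))) :
    (S.map (Scheme.Modules.pushforward (KRR.pr n Y))).ShortExact := by
  haveI : (Scheme.Modules.pushforward (KRR.pr n Y)).IsRightAdjoint :=
    (Scheme.Modules.pullbackPushforwardAdjunction (KRR.pr n Y)).isRightAdjoint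
  haveI : PreservesFiniteLimits (Scheme.Modules.pushforward (KRR.pr n Y)) := inferInstance
  haveI := hS.mono_f
  have hA := KFlat.QCohAcy.shortExact_toAb hS
  have he : Epi ((Coh.pushAb (KRR.pr n Y)).rightDerived 0 |>.map
      ((ModShf.toAbFunctor (KRR.PY n Y)).map S.g)) :=
    ((KRRLib.les n Y).exact₃ _ hA 0 1 rfl).epi_f (hz.eq_of_tgt _ _)
  have he' : Epi ((Coh.pushAb (KRR.pr n Y)).map ((ModShf.toAbFunctor (KRR.PY n Y)).map S.g)) := by
    rw [← NatIso.naturality_1 (Coh.pushAb (KRR.pr n Y)).rightDerivedZeroIsoSelf]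
    exact @epi_comp _ _ _ _ _ _ inferInstance _ (@epi_comp _ _ _ _ _ _ he _ inferInstance)
  have he'' : Epi ((ModShf.toAbFunctor Y).map ((Scheme.Modules.pushforward (KRR.pr n Y)).map S.g)) := he'
  haveI : (ModShf.toAbFunctor Y).Faithful := inferInstanceAs (SheafOfModules.toSheaf Y.ringCatSheaf).Faithful
  exact
    { exact := hS.exact.map_of_mono_of_preservesKernel _ hS.mono_f inferInstance
      mono_f := inferInstanceAs (Mono ((Scheme.Modules.pushforward (KRR.pr n Y)).map S.f))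
      epi_g := (ModShf.toAbFunctor Y).epi_of_epi_map he'' }

theorem isZero_push_of_isZero {M : (KRR.PY n Y).Modules}
    (h : IsZero ((Coh.RpushAb (KRR.pr n Y) 0).obj (Coh.toAb M))) :
    IsZero ((Scheme.Modules.pushforward (KRR.pr n Y)).obj M) := by
  haveI : (ModShf.toAbFunctor Y).Faithful := inferInstanceAs (SheafOfModules.toSheaf Y.ringCatSheaf).Faithful
  have h' : IsZero ((ModShf.toAbFunctor Y).obj ((Scheme.Modules.pushforward (KRR.pr n Y)).obj M)) :=
    h.of_iso (((Coh.pushAb (KRR.pr n Y)).rightDerivedZeroIsoSelf).app (Coh.toAb M)).symm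
  exact (IsZero.iff_id_eq_zero _).2 ((ModShf.toAbFunctor Y).map_injective (h'.eq_of_src _ _))

theorem isFinLocFree_push_of_acy [IsNoetherian Y] {F : (KRR.PY n Y).Modules} (hF : acyP n Y F) :
    FlatMod.IsFinLocFree ((Scheme.Modules.pushforward (KRR.pr n Y)).obj F) := by
  haveI := TwistFlat.isProper_toBase n Y
  haveI : IsLocallyNoetherian (KRR.PY n Y) := LocallyOfFiniteType.isLocallyNoetherian (KRR.pr n Y)
  have hG : Coh.IsCoh F := VBLib.isCoh_of_isFinLocFree hF.1
  haveI : F.IsQuasicoherent := hG.1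
  haveI := S3757.flat_pr n Y
  have hfl := S3757.isFlatOver_of_isFlat (KRR.pr n Y) F (KFlat.LocalD.flat_of_isFinLocFree hF.1)
  let e0 := ProjTwist.tensComm F (Twist.twistOver n Y ((0 : ℕ) : ℤ)) ≪≫
    (KRRLib.twFunZero (n := n) (T := Y)).app F
  refine KFlat.LocFree.isFinLocFree_of_iso ((Scheme.Modules.pushforward (KRR.pr n Y)).mapIso e0) ?_
  haveI := TwistFlat.isQCoh_twistOver n Y ((0 : ℕ) : ℤ)
  haveI : (CohB1.tensorMod F (Twist.twistOver n Y ((0 : ℕ) : ℤ))).IsQuasicoherent :=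
    LimTop.TensorQC.isQuasicoherent_tensM F (Twist.twistOver n Y ((0 : ℕ) : ℤ))
  haveI : ((Coh.push (CohB1.ProjSpaceOver.toBase n Y)).obj
      (CohB1.tensorMod F (Twist.twistOver n Y ((0 : ℕ) : ℤ)))).IsQuasicoherent :=
    QCoh.isQuasicoherent_pushforward _ _
  refine PinchLib.isFinLocFree_of_sections fun x => ?_
  obtain ⟨V, hV, hxV, -⟩ := exists_isAffineOpen_mem_and_subset (U := (⊤ : Y.Opens)) (x := x) trivial
  haveI : IsNoetherianRing Γ(Y, V) := IsLocallyNoetherian.component_noetherian ⟨V, hV⟩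
  haveI := TwistFlat.isOpenImmersion_chart n hV
  haveI := TwistFlat.isQCoh_restrict n hV F
  have H := TwistFlat.isPullback_chart n hV
  obtain ⟨h1, h2⟩ := KRRReg49.flat_finite_of_vanishing (TwistFlat.isCoh_restrict n hV F hG)
    ((TwistFlat.isFlatOver_restrict_iff H F).2 fun x => hfl _) 0 (fun p hp =>
      KRRReg49.subsingleton_of_isZero_twF hG.1 _ p hp
        (KRRLib.isZero_congr (twF0 F).symm p (hF.2 p hp)) hV)
  obtain ⟨e⟩ := TwistFlat.nonempty_restrict_twist n hV F 0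
  haveI := h1
  haveI := h2
  let l := TwistFlat.isoSec (CohB1.ProjSpace.toSpec n Γ(Y, V)) (V := ⊤) e.symm
  obtain ⟨a, b⟩ := TwistFlat.flat_finite_push_restrict H
    (CohB1.tensorMod F (Twist.twistOver n Y ((0 : ℕ) : ℤ)))
  have h3 := And.intro (a.1 (Module.Flat.of_linearEquiv l.symm)) (b.1 (Module.Finite.equiv l))
  rw [TwistFlat.fromSpec_image_top hV] at h3
  obtain ⟨hfl', hfin⟩ := h3
  exact ⟨V, hV, hxV, Module.finitePresentation_of_finite _ _, hfl'⟩

theorem exists_pushHom_acy [IsNoetherian Y] :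
    ∃ g : KZero.K0sub (acyP n Y) →+ SGA6.Kvb Y, ∀ F, acyP n Y F →
      g (KZero.clSub (acyP n Y) F) = KRR.cl Y ((Scheme.Modules.pushforward (KRR.pr n Y)).obj F) := by
  let g₀ : FreeAbelianGroup (Subtype (acyP n Y)) →+ SGA6.Kvb Y :=
    FreeAbelianGroup.lift fun M => KRR.cl Y ((Scheme.Modules.pushforward (KRR.pr n Y)).obj M.1)
  have hg : KZero.relSub (acyP n Y) ≤ g₀.ker := by
    rw [KZero.relSub, AddSubgroup.closure_le]
    rintro _ ⟨S, h₁, h₂, h₃, hS, rfl⟩
    simp only [SetLike.mem_coe, AddMonoidHom.mem_ker, map_sub, g₀, FreeAbelianGroup.lift_apply_of]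
    have h : KRR.cl Y ((Scheme.Modules.pushforward (KRR.pr n Y)).obj S.X₂) =
        KRR.cl Y ((Scheme.Modules.pushforward (KRR.pr n Y)).obj S.X₁) +
          KRR.cl Y ((Scheme.Modules.pushforward (KRR.pr n Y)).obj S.X₃) :=
      ResK0.Basic.clSub_add (KRR.vbP Y) (shortExact_push_of_acy hS (h₁.2 1 le_rfl))
        (isFinLocFree_push_of_acy h₁) (isFinLocFree_push_of_acy h₂) (isFinLocFree_push_of_acy h₃)
    rw [h]
    abel
  refine ⟨QuotientAddGroup.lift _ g₀ hg, fun F hF => ?_⟩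
  simp only [KZero.clSub, dif_pos hF]
  exact FreeAbelianGroup.lift_apply_of _ _

/-- `O(j) ⊗ O(e)`. -/
def twTwist (j : ℕ) (e : ℤ) :
    KRR.twF n Y ((j : ℕ) : ℤ) (Twist.twistOver n Y e) ≅ Twist.twistOver n Y ((j : ℤ) + e) :=
  KRRLib.twistAdd _ _ _ rfl

theorem isFinLocFree_twistOver (e : ℤ) : FlatMod.IsFinLocFree (Twist.twistOver n Y e) :=
  isFinLocFree_one (KRRLib.isInvertible_twistOver e)

theorem acy_twistOver (e : ℤ) (he : -(n : ℤ) ≤ e) : acyP n Y (Twist.twistOver n Y e) :=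
  ⟨isFinLocFree_twistOver e, fun i hi => GrModLib.isZero_RpushAb_twistOver Y n i e (by omega)⟩

theorem acy_biprod {A B : (KRR.PY n Y).Modules} (hA : acyP n Y A) (hB : acyP n Y B) :
    acyP n Y (A ⊞ B) :=
  ⟨PerfTri.Cone.isFinLocFree_biprod hA.1 hB.1, fun i hi =>
    ((KRRLib.les n Y).exact₂ _ (KFlat.QCohAcy.shortExact_toAb
      (S := ShortComplex.mk (biprod.inl : A ⟶ A ⊞ B) biprod.snd biprod.inl_snd)
      (ShortComplex.Splitting.ofHasBinaryBiproduct A B).shortExact) i).isZero_of_both_zeros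
      ((hA.2 i hi).eq_of_src _ _) ((hB.2 i hi).eq_of_tgt _ _)⟩

theorem acy_right {S : ShortComplex (KRR.PY n Y).Modules} (hS : S.ShortExact)
    (h₁ : acyP n Y S.X₁) (h₂ : acyP n Y S.X₂) (h₃ : FlatMod.IsFinLocFree S.X₃) : acyP n Y S.X₃ :=
  ⟨h₃, fun i hi => ((KRRLib.les n Y).exact₃ _ (KFlat.QCohAcy.shortExact_toAb hS) i (i + 1) rfl).isZero_of_both_zeros
    ((h₂.2 i hi).eq_of_src _ _) ((h₁.2 (i + 1) (by omega)).eq_of_tgt _ _)⟩

theorem classAcy (e : ℤ) (he : -(n : ℤ) ≤ e) : Class0 (acyP n Y) (Twist.twistOver n Y e) where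
  le _ h := h.1
  iso f h := ⟨KFlat.LocFree.isFinLocFree_of_iso f h.1, fun i hi => KRRLib.isZero_congr f i (h.2 i hi)⟩
  zero _ h := ⟨S3205.flf_of_isZero h, fun i _ => (Coh.RpushAb (KRR.pr n Y) i).map_isZero
    ((ModShf.toAbFunctor (KRR.PY n Y)).map_isZero h)⟩
  biprod _ _ := acy_biprod
  twist j := ⟨isFinLocFree_twF (isFinLocFree_twistOver e) _, fun i hi =>
    KRRLib.isZero_congr (twTwist j e).symm i ((acy_twistOver _ (by omega)).2 i hi)⟩

theorem acy_psi_right {F : (KRR.PY n Y).Modules} (hF : FlatMod.IsFinLocFree F) (s : ℤ)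
    {A B C : (CohB1.ProjSpace n (ULift.{u} ℤ)).Modules} (a : A ⟶ B) (b : B ⟶ C) (w : a ≫ b = 0)
    (h : (ShortComplex.mk a b w).ShortExact) (hC : FlatMod.IsFinLocFree C)
    (hA : acyP n Y ((psi F s).obj A)) (hB : acyP n Y ((psi F s).obj B)) :
    acyP n Y ((psi F s).obj C) :=
  acy_right (shortExact_psi hF s h hC) hA hB (isFinLocFree_psi hF s hC)

theorem acy_syz (e : ℤ) (he : -(n : ℤ) ≤ e) : ∀ c p : ℕ, n ≤ p + c →
    acyP n Y ((psi (Twist.twistOver n Y e) ((n + 1 : ℕ) : ℤ)).obj (Zs.{u} n p))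
  | 0, p, hp => (classAcy e he).zero _ ((psi _ _).map_isZero (isZero_syz p (by omega)))
  | c + 1, p, hp => by
    by_cases hn : n ≤ p
    · exact (classAcy e he).zero _ ((psi _ _).map_isZero (isZero_syz p hn))
    · have hA := acy_syz e he c (p + 1) (by omega)
      have hB := class_psi_term (classAcy (n := n) (Y := Y) e he) (taus.{u} n) (p + 2) (n + 1) (by omega)
      exact acy_psi_right (n := n) (Y := Y) (isFinLocFree_twistOver e) ((n + 1 : ℕ) : ℤ)
        (GrModLib.NegTwist.syzSeq (O0.{u} n) p).f (GrModLib.NegTwist.syzSeq (O0.{u} n) p).g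
        (GrModLib.NegTwist.syzSeq (O0.{u} n) p).zero
        (GrModLib.NegTwist.shortExact_syzSeq (O0.{u} n) p) (flf_syz n p) hA hB

/-- The relation among twists without higher direct images. -/
theorem relation_twistOver_acy (e : ℤ) (he : -(n : ℤ) ≤ e) :
    KZero.clSub (acyP n Y) (Twist.twistOver n Y e) =
      R n (fun j => KZero.clSub (acyP n Y) (Twist.twistOver n Y ((j : ℤ) + e))) := by
  have h := relation_of_syz (classAcy (Y := Y) e he) (isFinLocFree_twistOver e)
    fun p _ => acy_syz e he n p (Nat.le_add_left n p)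
  rw [clSub_iso (twF0 _) ((classAcy e he).twist 0) (acy_twistOver e he) (classAcy e he).zero,
    R_congr n (g := fun j => KZero.clSub (acyP n Y) (Twist.twistOver n Y ((j : ℤ) + e))) fun j _ =>
      clSub_iso (twTwist j e) ((classAcy e he).twist j) (acy_twistOver _ (by omega)) (classAcy e he).zero] at h
  exact h

/-- The relation among all twists in `Kvb`. -/
theorem relation_twistOver (e : ℤ) :
    KRR.cl (KRR.PY n Y) (Twist.twistOver n Y e) =
      R n (fun j => KRR.cl (KRR.PY n Y) (Twist.twistOver n Y ((j : ℤ) + e))) := by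
  have hc := classVb (isFinLocFree_twistOver (n := n) (Y := Y) e)
  have h := relation hc (isFinLocFree_twistOver e)
  rw [clSub_iso (twF0 _) (hc.twist 0) (isFinLocFree_twistOver e) hc.zero,
    R_congr n (g := fun j => KRR.cl (KRR.PY n Y) (Twist.twistOver n Y ((j : ℤ) + e))) fun j _ =>
      clSub_iso (twTwist j e) (hc.twist j) (isFinLocFree_twistOver _) hc.zero] at h
  exact h

/-- Binomial coefficients satisfy the relation. -/
theorem choose_eq_R (n i : ℕ) : ((i.choose n : ℕ) : ℤ) = R n (fun j => (((i + j).choose n : ℕ) : ℤ)) := by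
  have h0 : (fwdDiff (1 : ℕ))^[n + 1] (fun x => (x.choose n : ℤ)) i = 0 := by
    rw [Function.iterate_succ_apply']
    have h := fwdDiff_iter_choose 0 n
    simp only [add_zero, Nat.choose_zero_right, Nat.cast_one] at h
    rw [h]
    simp [fwdDiff]
  rw [fwdDiff_iter_eq_sum_shift, Finset.sum_range_succ, Finset.sum_range_succ'] at h0
  rw [← Finset.sum_range_reflect] at h0
  have hs : ∑ j ∈ Finset.range n, (((-1 : ℤ) ^ (n + 1 - ((n - 1 - j) + 1)) * ((n + 1).choose ((n - 1 - j) + 1) : ℤ)) •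
      (((i + ((n - 1 - j) + 1) • 1).choose n : ℕ) : ℤ)) =
      - ∑ p ∈ Finset.range n, ((-1 : ℤ) ^ p * ((n + 1).choose (p + 1) : ℤ)) • (((i + (n - p)).choose n : ℕ) : ℤ) := by
    rw [← Finset.sum_neg_distrib]
    refine Finset.sum_congr rfl fun p hp => ?_
    have hp' := Finset.mem_range.mp hp
    rw [show n - 1 - p + 1 = n - p by omega, show n + 1 - (n - p) = p + 1 by omega,
      show (n + 1).choose (n - p) = (n + 1).choose (p + 1) from
        Nat.choose_symm_of_eq_add (by omega)]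
    simp [pow_succ]
  rw [hs] at h0
  simp only [Nat.sub_self, pow_zero, Nat.choose_self, Nat.cast_one, mul_one, one_smul, Nat.sub_zero,
    Nat.choose_zero_right, smul_eq_mul, add_zero, zero_mul, one_mul, mul_comm _ (0 : ℕ)] at h0
  have hsq : (-1 : ℤ) ^ n * (-1 : ℤ) ^ n = 1 := by rw [← mul_pow]; simp
  simp only [R, smul_eq_mul]
  rw [pow_succ] at h0
  linear_combination ((-1 : ℤ) ^ n * (-1)) * h0 + (-(((i.choose n : ℕ) : ℤ))) * hsq

variable {KP KY : Type v} [CommRing KP] [CommRing KY] [IsNoetherian Y]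

/-- The values of `p_K` on twists. -/
theorem push_twistOver (φP : SGA6.Kvb (KRR.PY n Y) →+ KP) (φY : SGA6.Kvb Y →+ KY) (g : KP →+ KY)
    (hg : KRR.IsPushPr n Y φP φY g) (π : KZero.K0sub (acyP n Y) →+ SGA6.Kvb Y)
    (hπ : ∀ F, acyP n Y F → π (KZero.clSub (acyP n Y) F) =
      KRR.cl Y ((Scheme.Modules.pushforward (KRR.pr n Y)).obj F)) :
    ∀ (c : ℕ) (e : ℤ), -(n : ℤ) ≤ e → 0 ≤ e + c →
      g (φP (KRR.cl (KRR.PY n Y) (Twist.twistOver n Y e))) =
        φY (π (KZero.clSub (acyP n Y) (Twist.twistOver n Y e))) := by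
  intro c
  induction c with
  | zero =>
    intro e he h0
    have hr : KRR.IsRegSheaf n Y (Twist.twistOver n Y e) := fun i hi =>
      KRRLib.isZero_congr (KRRLib.twistAdd (-(i : ℤ)) e (-(i : ℤ) + e) rfl).symm i
        (GrModLib.isZero_RpushAb_twistOver Y n i (-(i : ℤ) + e) (by omega))
    rw [hg _ (isFinLocFree_twistOver e) hr, hπ _ (acy_twistOver e he)]
  | succ c ih =>
    intro e he h0
    by_cases h : 0 ≤ e + c
    · exact ih e he h
    · rw [relation_twistOver, relation_twistOver_acy e he, map_R φP, map_R g, map_R π, map_R φY]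
      exact R_congr n fun j hj => ih _ (by omega) (by omega)

theorem push_twistOver_neg (φP : SGA6.Kvb (KRR.PY n Y) →+ KP) (φY : SGA6.Kvb Y →+ KY) (g : KP →+ KY)
    (hg : KRR.IsPushPr n Y φP φY g) (i : ℕ) (hi : 1 ≤ i) (hin : i ≤ n) :
    g (φP (KRR.cl (KRR.PY n Y) (Twist.twistOver n Y (-(i : ℤ))))) = 0 := by
  obtain ⟨π, hπ⟩ := exists_pushHom_acy (n := n) (Y := Y)
  rw [push_twistOver φP φY g hg π hπ i _ (by omega) (by omega), hπ _ (acy_twistOver _ (by omega))]
  have hz := isZero_push_of_isZero (n := n) (Y := Y)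
    (GrModLib.isZero_RpushAb_twistOver Y n 0 (-(i : ℤ)) (by omega))
  rw [KRR.cl, S3205.clSub_eq_zero (P := KRR.vbP Y) (S3205.flf_of_isZero hz) hz, map_zero]

end Groth.Agent.KRR49
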