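import Groth.Agent.KRR49.Gen
import Groth.Agent.KRRLib.PullVb

/-!
# Base change of regular sheaves on `P^n_Y`
-/

set_option autoImplicit false
set_option linter.style.haveILetI false

open CategoryTheory CategoryTheory.Limits AlgebraicGeometry

universe u

noncomputable section

namespace Groth.Agent.KRR49

variable {n : ℕ} {Y Y₁ : Scheme.{u}} (φ : Y₁ ⟶ Y)

/-- The twist commutes with base change. -/
def twPullIso (F : (KRR.PY n Y).Modules) (d : ℤ) :
    (Scheme.Modules.pullback (KRR.projSpaceMap n φ)).obj (KRR.twF n Y d F) ≅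
      KRR.twF n Y₁ d ((Scheme.Modules.pullback (KRR.projSpaceMap n φ)).obj F) :=
  KFlat.PullTensor.pullTensorIso (KRR.projSpaceMap n φ) (Twist.twistOver n Y d) F ≪≫
    ProjTwist.tensCongr ((Scheme.Modules.pullbackComp _ _).app _ ≪≫
      (Scheme.Modules.pullbackCongr (show KRR.projSpaceMap n φ ≫ KRRLib.toPZ n Y = KRRLib.toPZ n Y₁ from
        (pullback.lift_fst _ _ _).trans (Category.comp_id _))).app _) (Iso.refl _)

/-- `ψ^* p^* ≅ p₁^* φ^*`. -/
def pullPrIso (E : Y.Modules) :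
    (Scheme.Modules.pullback (KRR.projSpaceMap n φ)).obj ((Scheme.Modules.pullback (KRR.pr n Y)).obj E) ≅
      (Scheme.Modules.pullback (KRR.pr n Y₁)).obj ((Scheme.Modules.pullback φ).obj E) :=
  (Scheme.Modules.pullbackComp _ _).app _ ≪≫
    (Scheme.Modules.pullbackCongr (show KRR.projSpaceMap n φ ≫ KRR.pr n Y = KRR.pr n Y₁ ≫ φ from
      pullback.lift_snd _ _ _)).app _ ≪≫
    ((Scheme.Modules.pullbackComp _ _).app _).symm

variable [IsNoetherian Y] [IsNoetherian Y₁]

/-- The pull-back of the counit sequence is short exact. -/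
theorem counit_seq_pull {F : (KRR.PY n Y).Modules} (hF : regP n Y F) :
    ((ShortComplex.mk (kernel.ι ((Scheme.Modules.pullbackPushforwardAdjunction (KRR.pr n Y)).counit.app F))
        ((Scheme.Modules.pullbackPushforwardAdjunction (KRR.pr n Y)).counit.app F)
        (kernel.condition _)).map (Scheme.Modules.pullback (KRR.projSpaceMap n φ))).ShortExact := by
  obtain ⟨_, hS⟩ := counit_seq hF
  exact KRRLib.shortExact_pull (KRR.projSpaceMap n φ) hS hF.1

/-- Regularity and vanishing pass to base change. -/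
theorem reg_van_pull : ∀ c k : ℕ, k + c = n + 1 → ∀ F : (KRR.PY n Y).Modules, regP n Y F → Van k F →
    KRR.IsRegSheaf n Y₁ ((Scheme.Modules.pullback (KRR.projSpaceMap n φ)).obj F) ∧
      Van k ((Scheme.Modules.pullback (KRR.projSpaceMap n φ)).obj F)
  | 0, k, hk, F, hF, hV => by
    obtain rfl : k = n + 1 := by omega
    have hz := (Scheme.Modules.pullback (KRR.projSpaceMap n φ)).map_isZero (isZero_of_van hF hV)
    exact ⟨isRegSheaf_of_isZero hz, fun j _ _ i => (Coh.RpushAb (KRR.pr n Y₁) i).map_isZero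
      ((ModShf.toAbFunctor (KRR.PY n Y₁)).map_isZero ((KRRLib.twFun n Y₁ (-(j : ℤ))).map_isZero hz))⟩
  | c + 1, k, hk, F, hF, hV => by
    obtain ⟨hR, hW⟩ := reg_van_pull c (k + 1) (by omega) (nextF F) (regP_next hF) (van_next hF (by omega) hV)
    have hS := counit_seq_pull φ hF
    have hE := KFlat.LocFree.isFinLocFree_pull φ (S3756.result n Y F hF.1 hF.2)
    -- vanishing for the kernel
    have hZ : ∀ (m a : ℕ), IsZero ((Coh.RpushAb (KRR.pr n Y₁) a).obj (Coh.toAb (KRR.twF n Y₁ (-((m + 1 : ℕ) : ℤ))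
          ((Scheme.Modules.pullback (KRR.projSpaceMap n φ)).obj (nextF F))))) →
        IsZero ((Coh.RpushAb (KRR.pr n Y₁) a).obj (Coh.toAb (KRR.twF n Y₁ (-(m : ℤ))
          ((Scheme.Modules.pullback (KRR.projSpaceMap n φ)).obj
            (kernel ((Scheme.Modules.pullbackPushforwardAdjunction (KRR.pr n Y)).counit.app F)))))) :=
      fun m a h => KRRLib.isZero_congr ((KRRLib.twFun n Y₁ _).mapIso (twPullIso φ _ 1) ≪≫
        KRRLib.twTw _ 1 (-((m + 1 : ℕ) : ℤ)) (-(m : ℤ)) (by push_cast; ring)) a h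
    -- vanishing for the pulled back bundle
    have hP : ∀ (j a : ℕ), ¬ ((a = 0 ∧ 0 ≤ -(j : ℤ)) ∨ (a = n ∧ -(j : ℤ) ≤ -((n : ℤ) + 1))) →
        IsZero ((Coh.RpushAb (KRR.pr n Y₁) a).obj (Coh.toAb (KRR.twF n Y₁ (-(j : ℤ))
          ((Scheme.Modules.pullback (KRR.projSpaceMap n φ)).obj
            ((Scheme.Modules.pullback (KRR.pr n Y)).obj ((Scheme.Modules.pushforward (KRR.pr n Y)).obj F)))))) :=
      fun j a h => KRRLib.isZero_congr ((KRRLib.twFun n Y₁ _).mapIso (pullPrIso φ _)).symm a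
        (isZero_twF_pull hE a _ h)
    have hle : ∀ (j a : ℕ), IsZero ((Coh.RpushAb (KRR.pr n Y₁) a).obj (Coh.toAb (KRR.twF n Y₁ (-(j : ℤ))
          ((Scheme.Modules.pullback (KRR.projSpaceMap n φ)).obj
            ((Scheme.Modules.pullback (KRR.pr n Y)).obj ((Scheme.Modules.pushforward (KRR.pr n Y)).obj F)))))) →
        IsZero ((Coh.RpushAb (KRR.pr n Y₁) (a + 1)).obj (Coh.toAb (KRR.twF n Y₁ (-(j : ℤ))
          ((Scheme.Modules.pullback (KRR.projSpaceMap n φ)).obj
            (kernel ((Scheme.Modules.pullbackPushforwardAdjunction (KRR.pr n Y)).counit.app F)))))) →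
        IsZero ((Coh.RpushAb (KRR.pr n Y₁) a).obj (Coh.toAb (KRR.twF n Y₁ (-(j : ℤ))
          ((Scheme.Modules.pullback (KRR.projSpaceMap n φ)).obj F)))) :=
      fun j a h₂ h₁ => ((KRRLib.les n Y₁).exact₃ _ (KRRLib.shortExact_ab hS (-(j : ℤ))) a (a + 1) rfl).isZero_of_both_zeros
        (h₂.eq_of_src _ _) (h₁.eq_of_tgt _ _)
    exact ⟨fun i hi => hle i i (hP i i (by omega)) (hZ i (i + 1) (hR (i + 1) (by omega))),
      fun j h1 h2 i => hle j i (hP j i (by omega)) (hZ j (i + 1) (hW (j + 1) (by omega) (by omega) (i + 1)))⟩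

theorem isIso_unit_pr {E : Y.Modules} (hE : FlatMod.IsFinLocFree E) :
    IsIso ((Scheme.Modules.pullbackPushforwardAdjunction (KRR.pr n Y)).unit.app E) := by
  let adj := Scheme.Modules.pullbackPushforwardAdjunction (KRR.pr n Y)
  obtain ⟨e⟩ := nonempty_push_pull (n := n) hE
  have hO : KRR.IsRegSheaf n Y (Coh.structureModule (KRR.PY n Y)) := fun i hi =>
    KRRLib.isZero_congr (ProjTwist.tensOne (Twist.twistOver n Y (-(i : ℤ)))).symm i
      (GrModLib.isZero_RpushAb_twistOver Y n i (-(i : ℤ)) (by omega))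
  have hG : regP n Y ((Scheme.Modules.pullback (KRR.pr n Y)).obj E) :=
    ⟨KFlat.LocFree.isFinLocFree_pull _ hE, isRegSheaf_of_iso (ProjTwist.oneTens _)
      (isRegSheaf_tens_pull (VBLib.isCoh_of_isFinLocFree
        (isFinLocFree_one (LFFrame.isInvertible_structureModule (KRR.PY n Y)))).1 hO hE)⟩
  haveI := isIso_push_counit hG
  haveI : IsIso (adj.unit.app ((Scheme.Modules.pushforward (KRR.pr n Y)).obj
      ((Scheme.Modules.pullback (KRR.pr n Y)).obj E))) := by
    haveI : IsIso (adj.unit.app ((Scheme.Modules.pushforward (KRR.pr n Y)).obj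
        ((Scheme.Modules.pullback (KRR.pr n Y)).obj E)) ≫
        (Scheme.Modules.pushforward (KRR.pr n Y)).map (adj.counit.app _)) := by
      rw [adj.right_triangle_components]
      infer_instance
    exact IsIso.of_isIso_comp_right _ ((Scheme.Modules.pushforward (KRR.pr n Y)).map (adj.counit.app _))
  exact (NatTrans.isIso_app_iff_of_iso adj.unit e).1 inferInstance

/-- Base change for regular bundles. -/
theorem reg_bc (hsq : KRR.projSpaceMap n φ ≫ KRR.pr n Y = KRR.pr n Y₁ ≫ φ)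
    {F : (KRR.PY n Y).Modules} (hF : regP n Y F) :
    KRR.IsRegSheaf n Y₁ ((Scheme.Modules.pullback (KRR.projSpaceMap n φ)).obj F) ∧
      IsIso (KRR.bcMap n φ hsq F) := by
  have hV : Van 0 F := fun j h1 h2 => absurd h2 (by omega)
  refine ⟨(reg_van_pull φ (n + 1) 0 (by omega) F hF hV).1, ?_⟩
  obtain ⟨-, hW⟩ := reg_van_pull φ n 1 (by omega) (nextF F) (regP_next hF) (van_next hF (Nat.zero_le n) hV)
  let W := Scheme.Modules.pullback (KRR.projSpaceMap n φ)
  let Z := W.obj (kernel ((Scheme.Modules.pullbackPushforwardAdjunction (KRR.pr n Y)).counit.app F))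
  have hZ : ∀ a, IsZero ((Coh.RpushAb (KRR.pr n Y₁) a).obj (Coh.toAb Z)) := fun a =>
    KRRLib.isZero_congr ((KRRLib.twFun n Y₁ _).mapIso (twPullIso φ _ 1) ≪≫
      KRRLib.twTw _ 1 (-((1 : ℕ) : ℤ)) ((0 : ℕ) : ℤ) (by norm_num) ≪≫ twF0 Z) a (hW 1 le_rfl le_rfl a)
  have hS := shortExact_push_of_acy (counit_seq_pull φ hF) (hZ 1)
  haveI : IsIso ((Scheme.Modules.pushforward (KRR.pr n Y₁)).map
      (W.map ((Scheme.Modules.pullbackPushforwardAdjunction (KRR.pr n Y)).counit.app F))) :=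
    (ShortComplex.ShortExact.isIso_g_iff hS).2 (isZero_push_of_isZero (hZ 0))
  haveI := isIso_unit_pr (n := n) (KFlat.LocFree.isFinLocFree_pull φ (S3756.result n Y F hF.1 hF.2))
  rw [KRR.bcMap, Adjunction.homEquiv_unit, Functor.map_comp, Functor.map_comp, Functor.map_comp]
  infer_instance

end Groth.Agent.KRR49
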