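import Groth.Agent.KRR49.KoszulClass
import Groth.Agent.KRR49.EventReg
import Groth.Agent.S19428
import Groth.Agent.VBLib.Basic
import Groth.Agent.S3757

/-!
# `K₀` of regular bundles on `P^n_Y`
-/

set_option autoImplicit false
set_option linter.style.haveILetI false

open CategoryTheory CategoryTheory.Limits AlgebraicGeometry

universe u

noncomputable section

namespace Groth.Agent.KRR49

variable (n : ℕ) (Y : Scheme.{u})

/-- Regular bundles. -/
abbrev regP : ObjectProperty (KRR.PY n Y).Modules :=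
  fun M => FlatMod.IsFinLocFree M ∧ KRR.IsRegSheaf n Y M

variable {n Y}

theorem isRegSheaf_of_iso {M N : (KRR.PY n Y).Modules} (e : M ≅ N) (h : KRR.IsRegSheaf n Y M) :
    KRR.IsRegSheaf n Y N := fun i hi =>
  KRRLib.isZero_congr ((KRRLib.twFun n Y (-(i : ℤ))).mapIso e) i (h i hi)

theorem isRegSheaf_of_isZero {M : (KRR.PY n Y).Modules} (h : IsZero M) : KRR.IsRegSheaf n Y M :=
  fun i _ => by
    haveI : ((Coh.pushAb (KRR.pr n Y)).rightDerived i).Additive := inferInstance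
    exact (Coh.RpushAb (KRR.pr n Y) i).map_isZero
      ((ModShf.toAbFunctor (KRR.PY n Y)).map_isZero ((KRRLib.twFun n Y _).map_isZero h))

theorem classVb {F : (KRR.PY n Y).Modules} (hF : FlatMod.IsFinLocFree F) :
    Class (KRR.vbP (KRR.PY n Y)) F where
  le _ h := h
  iso e h := KFlat.LocFree.isFinLocFree_of_iso e h
  zero _ h := S3205.flf_of_isZero h
  biprod _ _ := PerfTri.Cone.isFinLocFree_biprod
  right _ _ _ h _ := h
  twist _ := isFinLocFree_twF hF _

theorem reg_twist [IsNoetherian Y] {F : (KRR.PY n Y).Modules} (hF : FlatMod.IsFinLocFree F)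
    (hr : KRR.IsRegSheaf n Y F) (j : ℕ) : regP n Y (KRR.twF n Y ((j : ℕ) : ℤ) F) := by
  haveI := TwistFlat.isProper_toBase n Y
  haveI : IsLocallyNoetherian (KRR.PY n Y) := LocallyOfFiniteType.isLocallyNoetherian (KRR.pr n Y)
  have hq : Coh.IsQCoh F := (VBLib.isCoh_of_isFinLocFree hF).1
  exact ⟨isFinLocFree_twF hF _, S19428.result n Y F hq hr j⟩

theorem reg_biprod {A B : (KRR.PY n Y).Modules} (hA : KRR.IsRegSheaf n Y A)
    (hB : KRR.IsRegSheaf n Y B) : KRR.IsRegSheaf n Y (A ⊞ B) :=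
  @KRRLib.reg_middle n Y (ShortComplex.mk (biprod.inl : A ⟶ A ⊞ B) biprod.snd biprod.inl_snd)
    (ShortComplex.Splitting.ofHasBinaryBiproduct A B).shortExact hA hB

theorem classReg [IsNoetherian Y] {F : (KRR.PY n Y).Modules} (hF : regP n Y F) :
    Class (regP n Y) F where
  le _ h := h.1
  iso e h := ⟨KFlat.LocFree.isFinLocFree_of_iso e h.1, isRegSheaf_of_iso e h.2⟩
  zero _ h := ⟨S3205.flf_of_isZero h, isRegSheaf_of_isZero h⟩
  biprod _ _ hA hB := ⟨PerfTri.Cone.isFinLocFree_biprod hA.1 hB.1, reg_biprod hA.2 hB.2⟩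
  right S hS h₂ h₃ h₁ := ⟨h₃, @KRRLib.reg_right n Y S hS h₂.2 h₁.2⟩
  twist j := reg_twist hF.1 hF.2 j

/-- All twists from `k` on are regular. -/
def RegFrom (k : ℕ) (F : (KRR.PY n Y).Modules) : Prop :=
  ∀ j : ℕ, k ≤ j → KRR.IsRegSheaf n Y (KRR.twF n Y ((j : ℕ) : ℤ) F)

/-- `F(0) ≅ F`. -/
def twF0 (F : (KRR.PY n Y).Modules) : KRR.twF n Y ((0 : ℕ) : ℤ) F ≅ F :=
  eqToIso (by rw [Nat.cast_zero]; rfl) ≪≫ (KRRLib.twFunZero (n := n) (T := Y)).app F

theorem reg_of_regFrom {F : (KRR.PY n Y).Modules} (h : RegFrom 0 F) : KRR.IsRegSheaf n Y F :=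
  isRegSheaf_of_iso (twF0 F) (h 0 le_rfl)

theorem regFrom_twF {F : (KRR.PY n Y).Modules} {k : ℕ} (h : RegFrom (k + 1) F) {j : ℕ} (hj : 1 ≤ j) :
    RegFrom k (KRR.twF n Y ((j : ℕ) : ℤ) F) := fun i hi =>
  isRegSheaf_of_iso (KRRLib.twTw F ((j : ℕ) : ℤ) ((i : ℕ) : ℤ) (((i + j : ℕ)) : ℤ) (by push_cast; ring)).symm
    (h (i + j) (by omega))

/-- The value in `K₀` of regular bundles. -/
def rho : ℕ → (KRR.PY n Y).Modules → KZero.K0sub (regP n Y)
  | 0, F => KZero.clSub (regP n Y) F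
  | k + 1, F => R n fun j => rho k (KRR.twF n Y ((j : ℕ) : ℤ) F)

theorem rho_add : ∀ (k : ℕ) (S : ShortComplex (KRR.PY n Y).Modules), S.ShortExact →
    FlatMod.IsFinLocFree S.X₁ → FlatMod.IsFinLocFree S.X₂ → FlatMod.IsFinLocFree S.X₃ →
    RegFrom k S.X₁ → RegFrom k S.X₂ → RegFrom k S.X₃ →
    rho k S.X₂ = rho k S.X₁ + rho k S.X₃
  | 0, S, hS, a, b, c, r₁, r₂, r₃ => ResK0.Basic.clSub_add _ hS ⟨a, reg_of_regFrom r₁⟩
      ⟨b, reg_of_regFrom r₂⟩ ⟨c, reg_of_regFrom r₃⟩
  | k + 1, S, hS, a, b, c, r₁, r₂, r₃ => by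
    simp only [rho]
    rw [← R_add]
    exact R_congr n fun j hj => rho_add k (S.map (KRRLib.twFun n Y ((j : ℕ) : ℤ)))
      (KRRLib.shortExact_tw hS _) (isFinLocFree_twF a _) (isFinLocFree_twF b _) (isFinLocFree_twF c _)
      (regFrom_twF r₁ hj) (regFrom_twF r₂ hj) (regFrom_twF r₃ hj)

variable [IsNoetherian Y]

theorem rho_succ : ∀ (k : ℕ) (F : (KRR.PY n Y).Modules), FlatMod.IsFinLocFree F → RegFrom k F →
    rho (k + 1) F = rho k F
  | 0, F, hF, r => by
    have hreg : regP n Y F := ⟨hF, reg_of_regFrom r⟩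
    have h := relation (classReg hreg) hF
    simp only [rho]
    rw [← h]
    exact clSub_iso (twF0 F) ((classReg hreg).twist 0) hreg (classReg hreg).zero
  | k + 1, F, hF, r => by
    show R n (fun j => rho (k + 1) (KRR.twF n Y ((j : ℕ) : ℤ) F)) =
      R n (fun j => rho k (KRR.twF n Y ((j : ℕ) : ℤ) F))
    exact R_congr n fun j hj => rho_succ k _ (isFinLocFree_twF hF _) (regFrom_twF r hj)

theorem rho_stable {k m : ℕ} (h : k ≤ m) {F : (KRR.PY n Y).Modules} (hF : FlatMod.IsFinLocFree F)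
    (r : RegFrom k F) : rho m F = rho k F := by
  induction h with
  | refl => rfl
  | step h ih => exact (rho_succ _ F hF fun j hj => r j ((Nat.le_trans h hj))).trans ih

variable (h : ∀ M : (KRR.PY n Y).Modules, regP n Y M → FlatMod.IsFinLocFree M)

theorem mapSub_cl {E : (KRR.PY n Y).Modules} (hE : regP n Y E) :
    SGA6.mapSub (𝟭 (KRR.PY n Y).Modules) (regP n Y) (KRR.vbP (KRR.PY n Y)) h
      (KZero.clSub (regP n Y) E) = KZero.clSub (KRR.vbP (KRR.PY n Y)) E := by
  simp only [KZero.clSub, dif_pos hE, dif_pos (h E hE), SGA6.mapSub, QuotientAddGroup.map_mk,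
    FreeAbelianGroup.map_of_apply, SGA6.objMap]
  rfl

theorem mapSub_rho : ∀ (k : ℕ) (F : (KRR.PY n Y).Modules), FlatMod.IsFinLocFree F → RegFrom k F →
    SGA6.mapSub (𝟭 (KRR.PY n Y).Modules) (regP n Y) (KRR.vbP (KRR.PY n Y)) h (rho k F) =
      KZero.clSub (KRR.vbP (KRR.PY n Y)) F
  | 0, F, hF, r => mapSub_cl h ⟨hF, reg_of_regFrom r⟩
  | k + 1, F, hF, r => by
    simp only [rho]
    rw [map_R, R_congr n (g := fun j => KZero.clSub (KRR.vbP (KRR.PY n Y)) (KRR.twF n Y ((j : ℕ) : ℤ) F))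
      fun j hj => mapSub_rho k _ (isFinLocFree_twF hF _) (regFrom_twF r hj),
      ← relation (classVb hF) hF]
    exact clSub_iso (twF0 F) ((classVb hF).twist 0) hF (classVb hF).zero

theorem bijective_mapSub_reg :
    Function.Bijective (SGA6.mapSub (𝟭 (KRR.PY n Y).Modules) (regP n Y) (KRR.vbP (KRR.PY n Y)) h) := by
  classical
  haveI := TwistFlat.isProper_toBase n Y
  haveI : IsLocallyNoetherian (KRR.PY n Y) := LocallyOfFiniteType.isLocallyNoetherian (KRR.pr n Y)
  choose N hN using fun M : Subtype (KRR.vbP (KRR.PY n Y)) =>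
    exists_isRegSheaf_twF M.1 (VBLib.isCoh_of_isFinLocFree M.2)
  let g₀ : FreeAbelianGroup (Subtype (KRR.vbP (KRR.PY n Y))) →+ KZero.K0sub (regP n Y) :=
    FreeAbelianGroup.lift fun M => rho (N M) M.1
  have hg : KZero.relSub (KRR.vbP (KRR.PY n Y)) ≤ g₀.ker := by
    rw [KZero.relSub, AddSubgroup.closure_le]
    rintro _ ⟨S, h₁, h₂, h₃, hS, rfl⟩
    simp only [SetLike.mem_coe, AddMonoidHom.mem_ker, map_sub, g₀, FreeAbelianGroup.lift_apply_of]
    let m := N ⟨S.X₁, h₁⟩ + N ⟨S.X₂, h₂⟩ + N ⟨S.X₃, h₃⟩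
    rw [← rho_stable (m := m) (by omega) h₂ (hN ⟨_, h₂⟩), ← rho_stable (m := m) (by omega) h₁ (hN ⟨_, h₁⟩),
      ← rho_stable (m := m) (by omega) h₃ (hN ⟨_, h₃⟩),
      rho_add m S hS h₁ h₂ h₃ (fun j hj => hN ⟨_, h₁⟩ j (by omega)) (fun j hj => hN ⟨_, h₂⟩ j (by omega))
        (fun j hj => hN ⟨_, h₃⟩ j (by omega))]
    abel
  let G : KZero.K0sub (KRR.vbP (KRR.PY n Y)) →+ KZero.K0sub (regP n Y) := QuotientAddGroup.lift _ g₀ hg
  have h1 : ∀ x, G (SGA6.mapSub (𝟭 _) (regP n Y) (KRR.vbP (KRR.PY n Y)) h x) = x := fun x => by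
    induction x using QuotientAddGroup.induction_on with
    | H z =>
      induction z using FreeAbelianGroup.induction_on with
      | zero => simp
      | of M =>
        show g₀ (FreeAbelianGroup.map _ (FreeAbelianGroup.of M)) = _
        simp only [FreeAbelianGroup.map_of_apply, g₀, FreeAbelianGroup.lift_apply_of, SGA6.objMap]
        refine (rho_stable (k := 0) (Nat.zero_le _) M.2.1 fun j _ => ((classReg M.2).twist j).2).trans ?_
        simp only [rho, KZero.clSub, dif_pos M.2]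
      | neg M hM => simp only [QuotientAddGroup.mk_neg, map_neg] at hM ⊢; rw [hM]
      | add M M' hM hM' => simp only [QuotientAddGroup.mk_add, map_add, hM, hM']
  have h2 : ∀ y, SGA6.mapSub (𝟭 _) (regP n Y) (KRR.vbP (KRR.PY n Y)) h (G y) = y := fun y => by
    induction y using QuotientAddGroup.induction_on with
    | H z =>
      induction z using FreeAbelianGroup.induction_on with
      | zero => simp
      | of M =>
        refine Eq.trans (congrArg _ (show g₀ (FreeAbelianGroup.of M) = rho (N M) M.1 from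
          FreeAbelianGroup.lift_apply_of _ _)) ?_
        refine (mapSub_rho h _ _ M.2 (hN M)).trans ?_
        simp only [KZero.clSub]
        rw [dif_pos M.2]
      | neg M hM => simp only [QuotientAddGroup.mk_neg, map_neg] at hM ⊢; rw [hM]
      | add M M' hM hM' => simp only [QuotientAddGroup.mk_add, map_add, hM, hM']
  exact ⟨Function.LeftInverse.injective h1, Function.RightInverse.surjective h2⟩

end Groth.Agent.KRR49
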