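import Groth.Agent.LocCoh.TorLES
import Mathlib.RingTheory.Regular.RegularSequence
import Mathlib.RingTheory.QuotSMulTop
import Mathlib.Algebra.Homology.ShortComplex.Linear
import Mathlib.Algebra.Category.ModuleCat.Projective

/-!
# Modules acyclic for tensoring with a fixed module
-/

set_option autoImplicit false
set_option linter.unusedVariables false
set_option linter.style.haveILetI false

universe u

open CategoryTheory MonoidalCategory RingTheory.Sequence
open scoped TensorProduct Pointwise
open Groth.Agent.LocCoh.Tor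

noncomputable section

namespace Groth.Agent.KRR49.TorAcyclic

variable {A : Type u} [CommRing A] {B : Type u} [AddCommGroup B] [Module A B]

/-- `Tor_i(M, B) = 0` for all `i > 0`. -/
def TA (A : Type u) [CommRing A] (B : Type u) [AddCommGroup B] [Module A B] (M : Type u) [AddCommGroup M] [Module A M] : Prop :=
  ∀ (n : ℕ) (x : T (n + 1) (ModuleCat.of A M) (ModuleCat.of A B)), x = 0


theorem ta_of_flat (M : Type u) [AddCommGroup M] [Module A M] [Module.Flat A M] : TA A B M :=
  fun n x => tor_succ_eq_zero_of_flat (ModuleCat.of A M) n _ x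

theorem ta_congr {M N : Type u} [AddCommGroup M] [Module A M] [AddCommGroup N] [Module A N]
    (e : M ≃ₗ[A] N) (h : TA A B M) : TA A B N := fun n x => by
  let φ := ((CategoryTheory.Tor (ModuleCat.{u} A) (n + 1)).mapIso e.toModuleIso).app (ModuleCat.of A B)
  have hz : φ.inv x = 0 := h n _
  have := congrArg φ.hom hz
  rwa [map_zero, Iso.inv_hom_id_apply] at this

theorem whiskerRight_eq {K L : Type u} [AddCommGroup K] [Module A K] [AddCommGroup L] [Module A L]
    (f : K →ₗ[A] L) (z : K ⊗[A] B) :
    ((ModuleCat.ofHom f) ▷ ModuleCat.of A B).hom z = f.rTensor B z := rfl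

theorem tensor_injective {K L M : Type u} [AddCommGroup K] [Module A K] [AddCommGroup L] [Module A L]
    [AddCommGroup M] [Module A M] {f : K →ₗ[A] L} {g : L →ₗ[A] M} (hf : Function.Injective f)
    (hg : Function.Surjective g) (hfg : Function.Exact f g) (hM : TA A B M) :
    Function.Injective (f.rTensor B) := by
  let S := ShortComplex.mk (ModuleCat.ofHom f) (ModuleCat.ofHom g)
    (by ext x; exact hfg.apply_apply_eq_zero x)
  have hS : S.ShortExact :=
    { exact := (ShortComplex.ShortExact.moduleCat_exact_iff_function_exact S).mpr hfg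
      mono_f := (ModuleCat.mono_iff_injective _).mpr hf
      epi_g := (ModuleCat.epi_iff_surjective _).mpr hg }
  refine (injective_iff_map_eq_zero _).2 fun z hz => ?_
  let N := ModuleCat.of A B
  let z' := (t0 S.X₁ N).inv z
  have h1 : (tf S.f 0 N).hom z' = 0 := by
    have h2 := congr($(t0_naturality_left S.f N).hom z')
    simp only [ModuleCat.hom_comp, LinearMap.comp_apply] at h2
    have h3 : (t0 S.X₁ N).hom.hom z' = z := Iso.inv_hom_id_apply _ _
    rw [h3] at h2
    have h4 : (t0 S.X₂ N).hom.hom ((tf S.f 0 N).hom z') = 0 := h2.trans ((whiskerRight_eq f z).trans hz)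
    have := congrArg (t0 S.X₂ N).inv h4
    rwa [map_zero, Iso.hom_inv_id_apply] at this
  obtain ⟨w, hw⟩ := (tor_exact₁ hS 0 N z').1 h1
  rw [hM 0 w, map_zero] at hw
  have := congrArg (t0 S.X₁ N).hom hw.symm
  rwa [map_zero, Iso.inv_hom_id_apply] at this

theorem ta_left {K L M : Type u} [AddCommGroup K] [Module A K] [AddCommGroup L] [Module A L]
    [AddCommGroup M] [Module A M] {f : K →ₗ[A] L} {g : L →ₗ[A] M} (hf : Function.Injective f)
    (hg : Function.Surjective g) (hfg : Function.Exact f g) (hL : TA A B L) (hM : TA A B M) : TA A B K := by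
  let S := ShortComplex.mk (ModuleCat.ofHom f) (ModuleCat.ofHom g)
    (by ext x; exact hfg.apply_apply_eq_zero x)
  have hS : S.ShortExact :=
    { exact := (ShortComplex.ShortExact.moduleCat_exact_iff_function_exact S).mpr hfg
      mono_f := (ModuleCat.mono_iff_injective _).mpr hf
      epi_g := (ModuleCat.epi_iff_surjective _).mpr hg }
  intro n x
  obtain ⟨w, rfl⟩ := (tor_exact₁ hS (n + 1) (ModuleCat.of A B) x).1 (hL n _)
  rw [hM (n + 1) w, map_zero]

theorem ta_quotSMulTop {M : Type u} [AddCommGroup M] [Module A M] (r : A) (hr : IsSMulRegular M r)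
    (hrB : IsSMulRegular (M ⊗[A] B) r) (hM : TA A B M) : TA A B (QuotSMulTop r M) := by
  let f : M →ₗ[A] M := r • LinearMap.id
  let g : M →ₗ[A] QuotSMulTop r M := (r • (⊤ : Submodule A M)).mkQ
  have hfg : Function.Exact f g := fun m => by
    rw [show g m = 0 ↔ m ∈ r • (⊤ : Submodule A M) from Submodule.Quotient.mk_eq_zero _,
      Submodule.mem_smul_pointwise_iff_exists]
    exact ⟨fun ⟨a, _, h⟩ => ⟨a, h⟩, fun ⟨a, h⟩ => ⟨a, trivial, h⟩⟩
  let S := ShortComplex.mk (ModuleCat.ofHom f) (ModuleCat.ofHom g)
    (by ext x; exact hfg.apply_apply_eq_zero x)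
  have hS : S.ShortExact :=
    { exact := (ShortComplex.ShortExact.moduleCat_exact_iff_function_exact S).mpr hfg
      mono_f := (ModuleCat.mono_iff_injective _).mpr hr
      epi_g := (ModuleCat.epi_iff_surjective _).mpr (Submodule.mkQ_surjective _) }
  intro n x
  let N := ModuleCat.of A B
  have hδ : (torδ hS n N).hom x = 0 := by
    cases n with
    | succ m => exact hM m _
    | zero =>
      have h0 : (tf S.f 0 N).hom ((torδ hS 0 N).hom x) = 0 := (tor_exact₁ hS 0 N _).2 ⟨x, rfl⟩
      let y := (t0 S.X₁ N).hom.hom ((torδ hS 0 N).hom x)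
      have h2 := congr($(t0_naturality_left S.f N).hom ((torδ hS 0 N).hom x))
      simp only [ModuleCat.hom_comp, LinearMap.comp_apply, h0, map_zero] at h2
      have h3 : r • y = 0 := by
        refine Eq.trans ?_ h2.symm
        refine Eq.trans ?_ (whiskerRight_eq f y).symm
        rw [LinearMap.rTensor_smul, LinearMap.smul_apply, LinearMap.rTensor_id]
        rfl
      have h4 : y = 0 := hrB (h3.trans (smul_zero r).symm)
      have := congrArg (t0 S.X₁ N).inv h4
      rwa [map_zero, Iso.hom_inv_id_apply] at this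
  obtain ⟨w, rfl⟩ := (tor_exact₃ hS n N x).1 hδ
  rw [hM n w, map_zero]

/-- The quotient by a sequence regular before and after tensoring is acyclic. -/
theorem ta_quot_regular : ∀ (rs : List A) (M : Type u) [AddCommGroup M] [Module A M], TA A B M →
    IsWeaklyRegular M rs → IsWeaklyRegular (M ⊗[A] B) rs →
      TA A B (M ⧸ (Ideal.ofList rs • ⊤ : Submodule A M))
  | [], M, _, _, h, _, _ => ta_congr (Submodule.quotEquivOfEqBot _ (by simp)).symm h
  | r :: rs, M, _, _, h, h1, h2 => by
    rw [isWeaklyRegular_cons_iff] at h1 h2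
    exact ta_congr (Submodule.quotOfListConsSMulTopEquivQuotSMulTopInner M r rs).symm
      (ta_quot_regular rs _ (ta_quotSMulTop r h1.1 h2.1 h) h1.2
        (((QuotSMulTop.quotSMulTopTensorEquivQuotSMulTop r B M).isWeaklyRegular_congr rs).2 h2.2))

end Groth.Agent.KRR49.TorAcyclic
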